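import Cfsg.Prelude.Def_Blocks
import Cfsg.Agent.H25.Burnside
import Cfsg.Agent.H25.CharIntegral
import Cfsg.Agent.H40.Residue

/-!
# Principal blocks of simple groups: characters of prime power degree
-/

set_option autoImplicit false

namespace Cfsg.Agent.H40

open Module Representation

variable {G : Type*} [Group G] [Finite G]

/-- A character of prime-power degree in the principal block of a non-abelian simple group is
principal. -/
theorem eq_one_of_principalBlock_degree_pow {p : ℕ} [Fact p.Prime] {M : Ideal Cfsg.AlgInt}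
    (hM : Cfsg.IsPModular p M) [IsSimpleGroup G] (hna : ∃ a b : G, a * b ≠ b * a)
    (χ : Cfsg.IrrCharacter G) (hχ : χ ∈ Cfsg.principalBlock M G) {k : ℕ}
    (hdeg : (χ : G → ℂ) 1 = (p : ℂ) ^ k) : (χ : G → ℂ) = fun _ => 1 := by
  classical
  have : Fintype G := Fintype.ofFinite G
  obtain ⟨n, ρ, hirr, hρ⟩ := χ.2
  have := hirr
  have hp : p.Prime := Fact.out
  have hn : n = p ^ k := by
    have h1 : ρ.character 1 = (p : ℂ) ^ k := by rw [hρ]; exact hdeg
    rw [ρ.char_one, Module.finrank_fin_fun] at h1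
    exact_mod_cast h1
  by_cases hker : ∀ x, ρ x = LinearMap.id
  · have hchar : ∀ x, ρ.character x = (n : ℂ) := fun x => by
      rw [(Cfsg.Agent.H25.char_eq_degree_iff ρ x).mpr (hker x), Module.finrank_fin_fun]
    have hsum := Cfsg.Agent.H25.sum_char_mul_char_inv ρ
    simp only [hchar, Finset.sum_const, Finset.card_univ, nsmul_eq_mul] at hsum
    rw [← Nat.card_eq_fintype_card] at hsum
    have h2 : Nat.card G * (n * n) = Nat.card G := by exact_mod_cast hsum
    have hn1 : n = 1 :=
      Nat.eq_one_of_mul_eq_one_right ((Nat.mul_eq_left Nat.card_pos.ne').mp h2)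
    funext x
    rw [← hρ, hchar, hn1, Nat.cast_one]
  exfalso
  have hinj : Function.Injective ρ := by
    rcases (MonoidHom.normal_ker ρ).eq_bot_or_eq_top with h | h
    · exact (MonoidHom.ker_eq_bot_iff ρ).mp h
    · refine absurd (fun x => ?_) hker
      have : x ∈ MonoidHom.ker ρ := by rw [h]; exact Subgroup.mem_top x
      exact this
  suffices h : ∃ z : G, z ≠ 1 ∧ ∃ ω : ℂ, ρ z = ω • LinearMap.id by
    obtain ⟨z, hz1, ω, hω⟩ := h
    have hzc : z ∈ Subgroup.center G := Subgroup.mem_center_iff.2 fun x => hinj (by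
      rw [map_mul, map_mul, hω]
      ext v
      simp)
    have htop : Subgroup.center G = ⊤ := by
      rcases (inferInstance : (Subgroup.center G).Normal).eq_bot_or_eq_top with h | h
      · rw [h, Subgroup.mem_bot] at hzc
        exact absurd hzc hz1
      · exact h
    obtain ⟨a, b, hab⟩ := hna
    exact hab ((Subgroup.mem_center_iff.mp (htop ▸ Subgroup.mem_top b : b ∈ Subgroup.center G) a))
  rcases Nat.eq_zero_or_pos k with rfl | hk
  · -- linear characters
    obtain ⟨z, hz⟩ := exists_ne (1 : G)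
    refine ⟨z, hz, ρ.character z / (Module.finrank ℂ (Fin n → ℂ) : ℂ),
      Cfsg.Agent.H25.apply_eq_smul_id_of_norm_eq ρ z ?_⟩
    obtain ⟨μ, hμ, hsum⟩ := Cfsg.Agent.H25.exists_char_eq_sum_roots ρ z
    have hfin : Module.finrank ℂ (Fin n → ℂ) = 1 := by rw [Module.finrank_fin_fun, hn, pow_zero]
    have huniv : (Finset.univ : Finset (Fin (Module.finrank ℂ (Fin n → ℂ)))) = {⟨0, by omega⟩} := by
      ext i
      simp [Fin.ext_iff]
      omega
    rw [hsum, huniv, Finset.sum_singleton,
      show (Module.finrank ℂ (Fin n → ℂ) : ℝ) = 1 by exact_mod_cast hfin]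
    exact Complex.norm_eq_one_of_pow_eq_one (hμ _) (orderOf_pos z).ne'
  have hdvd : p ∣ Nat.card G := by
    refine (dvd_pow_self p hk.ne').trans ?_
    have := Cfsg.Agent.H25.finrank_dvd_card ρ
    rwa [Module.finrank_fin_fun, hn] at this
  obtain ⟨P⟩ : Nonempty (Sylow p G) := inferInstance
  have : Nontrivial (P : Subgroup G) := by
    rw [← Finite.one_lt_card_iff_nontrivial, P.card_eq_multiplicity]
    exact Nat.one_lt_pow (hp.factorization_pos_of_dvd Nat.card_pos.ne' hdvd).ne' hp.one_lt
  have := P.2.center_nontrivial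
  obtain ⟨z, hz⟩ := exists_ne (1 : Subgroup.center (P : Subgroup G))
  have hz1 : (z.1.1 : G) ≠ 1 := fun e => hz (Subtype.ext (Subtype.ext e))
  have hPz : (P : Subgroup G) ≤ Subgroup.centralizer ({z.1.1} : Set G) := fun q hq => by
    rw [Subgroup.mem_centralizer_singleton_iff]
    exact congrArg Subtype.val (Subgroup.mem_center_iff.1 z.2 ⟨q, hq⟩)
  have hco : ¬ p ∣ (Subgroup.centralizer ({z.1.1} : Set G)).index := fun h =>
    P.not_dvd_index (h.trans (Subgroup.index_dvd_of_le hPz))
  have hcop : Nat.Coprime (Module.finrank ℂ (Fin n → ℂ))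
      (Subgroup.centralizer ({z.1.1} : Set G)).index := by
    rw [Module.finrank_fin_fun, hn]
    exact Nat.Coprime.pow_left _ (hp.coprime_iff_not_dvd.2 hco)
  refine ⟨z.1.1, hz1, _, Cfsg.Agent.H25.apply_eq_smul_id_of_norm_eq ρ _
    ((Cfsg.Agent.H25.char_eq_zero_or_norm_eq_of_coprime ρ _ hcop).resolve_left fun h0 => ?_)⟩
  have h := hχ z.1.1
  simp only [Cfsg.centralChar, mul_one, div_one, ← hρ, h0, mul_zero, zero_div] at h
  obtain ⟨a, b, ha, hb, hab⟩ := h
  first
    | exact hco (dvd_of_memLocalIdeal_natCast hM ⟨a, b, ha, hb, by rw [hab, sub_zero]⟩)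
    | exact hco (dvd_of_memLocalIdeal_natCast hM ⟨-a, b, neg_mem ha, hb, by
        push_cast; rw [neg_div, hab]; ring⟩)

end Cfsg.Agent.H40
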