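import Mathlib.LinearAlgebra.Trace
import Mathlib.RingTheory.IntegralClosure.IsIntegralClosure.Basic
import Mathlib.RingTheory.Nilpotent.Basic
import Mathlib.RingTheory.Polynomial.Basic
import Mathlib.FieldTheory.IsAlgClosed.Basic
import Mathlib.Algebra.CharP.Basic

/-!
# Primitive idempotents of finite dimensional algebras

The corner of a primitive idempotent is local with scalar residues.  The residue gives for each
primitive idempotent a trace functional, which is used to show that an additive invariant of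
idempotents vanishes in characteristic `p` on an idempotent that is a twisted trace.
-/

set_option autoImplicit false
set_option maxHeartbeats 200000
set_option linter.unusedSectionVars false

namespace Cfsg.Agent.H40

open Polynomial

variable {k A : Type*} [Field k] [Ring A] [Algebra k A]

/-- `e` is a primitive idempotent. -/
structure IsPrimIdem (e : A) : Prop where
  idem : e * e = e
  ne_zero : e ≠ 0
  prim : ∀ f : A, f * f = f → e * f = f → f * e = f → f = 0 ∨ f = e

/-- `a` lies in the corner of `e`. -/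
def InCorner (e a : A) : Prop := e * a = a ∧ a * e = a

theorem inCorner_self {e : A} (he : e * e = e) : InCorner e e := ⟨he, he⟩

theorem InCorner.mul {e a b : A} (ha : InCorner e a) (hb : InCorner e b) : InCorner e (a * b) :=
  ⟨by rw [← mul_assoc, ha.1], by rw [mul_assoc, hb.2]⟩

theorem InCorner.add {e a b : A} (ha : InCorner e a) (hb : InCorner e b) : InCorner e (a + b) :=
  ⟨by rw [mul_add, ha.1, hb.1], by rw [add_mul, ha.2, hb.2]⟩

theorem InCorner.sub {e a b : A} (ha : InCorner e a) (hb : InCorner e b) : InCorner e (a - b) :=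
  ⟨by rw [mul_sub, ha.1, hb.1], by rw [sub_mul, ha.2, hb.2]⟩

theorem InCorner.smul {e a : A} (ha : InCorner e a) (c : k) : InCorner e (c • a) :=
  ⟨by rw [mul_smul_comm, ha.1], by rw [smul_mul_assoc, ha.2]⟩

theorem inCorner_sandwich {e : A} (he : e * e = e) (a : A) : InCorner e (e * a * e) :=
  ⟨by rw [← mul_assoc, ← mul_assoc, he], by rw [mul_assoc, he]⟩

theorem IsPrimIdem.not_left_inverse {e m w : A} (he : IsPrimIdem e) (hm : IsNilpotent m)
    (hmc : InCorner e m) (hw : w * m = e) : False := by
  obtain ⟨n, hn⟩ := hm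
  have hemn : ∀ j, e * m ^ (j + 1) = m ^ (j + 1) := fun j => by rw [pow_succ', ← mul_assoc, hmc.1]
  suffices ∀ j, j ≤ n → e * m ^ (n - j) = 0 by
    have := this n le_rfl
    rw [Nat.sub_self, pow_zero, mul_one] at this
    exact he.ne_zero this
  intro j
  induction j with
  | zero => intro _; rw [Nat.sub_zero, hn, mul_zero]
  | succ j ih =>
    intro hj
    have h1 := ih (Nat.le_of_succ_le hj)
    rw [show n - j = n - (j + 1) + 1 by omega, hemn] at h1
    rw [← hw, mul_assoc, ← pow_succ', h1, mul_zero]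

/-- An additive, equivalence invariant function on idempotents. -/
def IsIdemAdditive {B : Type*} [AddCommMonoid B] (N : A → B) : Prop :=
  ∀ f g : A, f * f = f → g * g = g → f * g = 0 → g * f = 0 → N (f + g) = N f + N g

theorem finrank_range_mulRight_lt [FiniteDimensional k A] {e e₁ e₂ : A} (he : e₁ + e₂ = e) (h₁ : e₁ * e = e₁)
    (h₁₂ : e₁ * e₂ = 0) (h₂ : e₂ * e₂ = e₂) (hne : e₂ ≠ 0) :
    Module.finrank k (LinearMap.range (LinearMap.mulRight k e₁)) <
      Module.finrank k (LinearMap.range (LinearMap.mulRight k e)) := by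
  refine Submodule.finrank_lt_finrank_of_lt (lt_of_le_of_ne ?_ ?_)
  · rintro _ ⟨a, rfl⟩
    exact ⟨a * e₁, by rw [LinearMap.mulRight_apply, LinearMap.mulRight_apply, mul_assoc, h₁]⟩
  · intro heq
    obtain ⟨a, ha⟩ : e ∈ LinearMap.range (LinearMap.mulRight k e₁) :=
      heq ▸ ⟨1, by simp⟩
    rw [LinearMap.mulRight_apply] at ha
    have h3 : a * e₁ * e₂ = e * e₂ := by rw [ha]
    rw [mul_assoc, h₁₂, mul_zero, ← he, add_mul, h₁₂, h₂, zero_add] at h3
    exact hne h3.symm

/-- Induction on idempotents by orthogonal decomposition into primitive ones. -/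
theorem idem_induction (k : Type*) [Field k] {A : Type*} [Ring A] [Algebra k A]
    [FiniteDimensional k A] 
    {motive : A → Prop} (zero : motive 0) (prim : ∀ e, IsPrimIdem e → motive e)
    (add : ∀ f g, f * f = f → g * g = g → f * g = 0 → g * f = 0 → motive f → motive g →
      motive (f + g)) {e : A} (he : e * e = e) : motive e := by
  induction hn : Module.finrank k (LinearMap.range (LinearMap.mulRight k e))
    using Nat.strong_induction_on generalizing e with
  | _ n ih =>
  by_cases he0 : e = 0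
  · exact he0 ▸ zero
  by_cases hp : IsPrimIdem e
  · exact prim e hp
  obtain ⟨f, hf, hef, hfe, hf0, hfne⟩ : ∃ f, f * f = f ∧ e * f = f ∧ f * e = f ∧ f ≠ 0 ∧ f ≠ e := by
    by_contra hc
    push Not at hc
    exact hp ⟨he, he0, fun f h1 h2 h3 => or_iff_not_imp_left.2 (hc f h1 h2 h3)⟩
  have hg : (e - f) * (e - f) = e - f := by
    rw [sub_mul, mul_sub, mul_sub, he, hef, hfe, hf]; abel
  have hfg : f * (e - f) = 0 := by rw [mul_sub, hfe, hf, sub_self]
  have hgf : (e - f) * f = 0 := by rw [sub_mul, hef, hf, sub_self]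
  have hge : (e - f) * e = e - f := by rw [sub_mul, he, hfe]
  have hg0 : e - f ≠ 0 := sub_ne_zero.2 (Ne.symm hfne)
  have h1 := ih _ (hn ▸ finrank_range_mulRight_lt (k := k) (add_sub_cancel f e) hfe hfg hg hg0) hf rfl
  have h2 := ih _ (hn ▸ finrank_range_mulRight_lt (k := k) (sub_add_cancel e f) hge hgf hf hf0) hg rfl
  have := add f (e - f) hf hg hfg hgf h1 h2
  rwa [add_sub_cancel] at this

/-- A primitive decomposition, with the values of all additive functions. -/
theorem exists_prim_decomposition (k : Type*) [Field k] {A : Type*} [Ring A] [Algebra k A]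
    [FiniteDimensional k A] 
    {e : A} (he : e * e = e) :
    ∃ J : Finset A, (∀ j ∈ J, IsPrimIdem j ∧ InCorner e j) ∧ ∑ j ∈ J, j = e ∧
      ∀ N : A → k, N 0 = 0 → IsIdemAdditive N → N e = ∑ j ∈ J, N j := by
  classical
  refine idem_induction k (motive := fun e => ∃ J : Finset A,
    (∀ j ∈ J, IsPrimIdem j ∧ InCorner e j) ∧ ∑ j ∈ J, j = e ∧
      ∀ N : A → k, N 0 = 0 → IsIdemAdditive N → N e = ∑ j ∈ J, N j) ?zero ?prim ?add he
  case zero => exact ⟨∅, by simp, by simp, fun N h0 _ => by simp [h0]⟩
  case prim => exact fun e he => ⟨{e}, by simp [he, inCorner_self he.idem], by simp, fun N _ _ => by simp⟩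
  case add =>
    intro f g hf hg hfg hgf hJ hK
    obtain ⟨J, hJ1, hJ2, hJ3⟩ := hJ
    obtain ⟨K, hK1, hK2, hK3⟩ := hK
    have hdisj : Disjoint J K := Finset.disjoint_left.2 fun j hj hj' => (hJ1 j hj).1.ne_zero (by
      calc j = f * j := (hJ1 j hj).2.1.symm
        _ = f * (g * j) := congrArg (f * ·) (hK1 j hj').2.1.symm
        _ = 0 := by rw [← mul_assoc, hfg, zero_mul])
    refine ⟨J ∪ K, fun j hj => ?_, by rw [Finset.sum_union hdisj, hJ2, hK2], fun N h0 hN => by
      rw [Finset.sum_union hdisj, hN f g hf hg hfg hgf, hJ3 N h0 hN, hK3 N h0 hN]⟩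
    rcases Finset.mem_union.1 hj with h | h
    · obtain ⟨hp, h1, h2⟩ := hJ1 j h
      refine ⟨hp, ?_, ?_⟩
      · rw [add_mul, h1, ← h1, ← mul_assoc g f, hgf, zero_mul, add_zero]
      · rw [mul_add, h2, ← h2, mul_assoc j f g, hfg, mul_zero, add_zero]
    · obtain ⟨hp, h1, h2⟩ := hK1 j h
      refine ⟨hp, ?_, ?_⟩
      · rw [add_mul, h1, ← h1, ← mul_assoc f g, hfg, zero_mul, zero_add]
      · rw [mul_add, h2, ← h2, mul_assoc j g f, hgf, mul_zero, zero_add]

section Corner

variable (k) [FiniteDimensional k A]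

include k

/-- Fitting's alternative in the corner of a primitive idempotent. -/
theorem IsPrimIdem.isNilpotent_or 
    {e a : A} (he : IsPrimIdem e) (ha : InCorner e a) :
    IsNilpotent a ∨ ∃ w, InCorner e w ∧ a * w = e ∧ w * a = e := by
  obtain ⟨f, hf, hfa⟩ := IsIntegral.of_finite k a
  have hfX : f * X ≠ 0 := mul_ne_zero hf.ne_zero X_ne_zero
  obtain ⟨g, hfg, hg⟩ := Polynomial.exists_eq_pow_rootMultiplicity_mul_and_not_dvd (f * X) hfX 0
  set m := rootMultiplicity 0 (f * X)
  have hm : 1 ≤ m := (rootMultiplicity_pos hfX).2 (by simp [IsRoot])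
  rw [C_0, sub_zero] at hfg hg
  obtain ⟨u, v, huv⟩ : IsCoprime ((X : k[X]) ^ m) g :=
    (irreducible_X.coprime_iff_not_dvd.2 hg).pow_left
  have hzero : aeval a ((X : k[X]) ^ m * g) = 0 := by
    rw [← hfg, map_mul, aeval_def, hfa, zero_mul]
  obtain ⟨r, hr⟩ : ∃ r, m = r + 1 := ⟨m - 1, by omega⟩
  let w0 := aeval a (u * X ^ r)
  have hcw : Commute a w0 := by
    have := Commute.all (X : k[X]) (u * X ^ r)
    have h2 := this.map (aeval a)
    rwa [aeval_X] at h2
  have hF : aeval a (u * X ^ m) = a * w0 := by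
    rw [hr, pow_succ', show u * (X * X ^ r) = X * (u * X ^ r) by ring, map_mul, aeval_X]
  set F := aeval a (u * X ^ m) with hFdef
  have hFe : InCorner e F :=
    ⟨by rw [hF, ← mul_assoc, ha.1], by rw [hF, hcw.eq, mul_assoc, ha.2]⟩
  have hone : F + aeval a (v * g) = 1 := by rw [hFdef, ← map_add, huv, map_one]
  have hFg : F * aeval a (v * g) = 0 := by
    rw [hFdef, ← map_mul, show u * X ^ m * (v * g) = u * v * (X ^ m * g) by ring, map_mul, hzero,
      mul_zero]
  have hFF : F * F = F := by
    conv_rhs => rw [← mul_one F, ← hone, mul_add, hFg, add_zero]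
  rcases he.prim F hFF hFe.1 hFe.2 with h0 | h1
  · left
    refine ⟨m, ?_⟩
    rw [h0, zero_add] at hone
    calc a ^ m = a ^ m * aeval a (v * g) := by rw [hone, mul_one]
      _ = aeval a (v * (X ^ m * g)) := by
        rw [show v * (X ^ m * g) = X ^ m * (v * g) by ring, map_mul _ (X ^ m), map_pow, aeval_X]
      _ = 0 := by rw [map_mul, hzero, mul_zero]
  · right
    refine ⟨e * w0 * e, inCorner_sandwich he.idem w0, ?_, ?_⟩
    · rw [← mul_assoc, ← mul_assoc, ha.2, ← hF, h1, he.idem]
    · rw [mul_assoc, ha.1, mul_assoc, ← hcw.eq, ← hF, h1, he.idem]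

theorem IsPrimIdem.isNilpotent_mul_left 
    {e m w : A} (he : IsPrimIdem e) (hm : IsNilpotent m) (hmc : InCorner e m)
    (hw : InCorner e w) : IsNilpotent (w * m) := by
  refine (he.isNilpotent_or k (hw.mul hmc)).resolve_right ?_
  rintro ⟨w', -, -, h⟩
  exact he.not_left_inverse hm hmc (w := w' * w) (by rw [mul_assoc, h])

theorem IsPrimIdem.isNilpotent_add 
    {e n m : A} (he : IsPrimIdem e) (hn : IsNilpotent n) (hnc : InCorner e n) (hm : IsNilpotent m)
    (hmc : InCorner e m) : IsNilpotent (n + m) := by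
  refine (he.isNilpotent_or k (hnc.add hmc)).resolve_right ?_
  rintro ⟨w, hw, -, h⟩
  have hwn := he.isNilpotent_mul_left k hn hnc hw
  have hwm := he.isNilpotent_mul_left k hm hmc hw
  have hu : IsUnit (1 - w * n) := hwn.isUnit_one_sub
  obtain ⟨U, hU⟩ := hu
  have h1 : w * m = e * (U : A) := by
    rw [hU, mul_sub, mul_one, (hw.mul hnc).1, eq_sub_iff_add_eq, add_comm, ← mul_add, h]
  have hcomm : Commute (w * m) (U : A) := by
    rw [h1]
    have : Commute e (U : A) := by
      rw [hU]
      exact (Commute.one_right e).sub_right ((hw.mul hnc).1.trans (hw.mul hnc).2.symm)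
    exact this.mul_left (Commute.refl _)
  have h2 : IsNilpotent (w * m * ((U⁻¹ : Aˣ) : A)) :=
    (hcomm.units_inv_right).isNilpotent_mul_right hwm
  rw [h1, mul_assoc, U.mul_inv, mul_one] at h2
  obtain ⟨j, hj⟩ := h2
  refine he.ne_zero ?_
  rw [← (show IsIdempotentElem e from he.idem).pow_succ_eq j, pow_succ, hj, zero_mul]

end Corner

variable [FiniteDimensional k A] [IsAlgClosed k]

/-- The corner of a primitive idempotent has scalar residues. -/
theorem IsPrimIdem.exists_residue {e a : A} (he : IsPrimIdem e) (ha : InCorner e a) :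
    ∃ c : k, IsNilpotent (a - c • e) := by
  obtain ⟨f, hf, hfa⟩ := IsIntegral.of_finite k a
  by_contra hne
  push Not at hne
  have key : ∀ l : Multiset k, ∃ w : A,
      InCorner e w ∧ aeval a ((l.map fun c => X - C c).prod) * w = e := by
    intro l
    induction l using Multiset.induction with
    | empty => exact ⟨e, inCorner_self he.idem, by simp⟩
    | cons c l ih =>
      obtain ⟨w, hw, hwe⟩ := ih
      obtain ⟨w', hw', h, -⟩ := (he.isNilpotent_or k (ha.sub ((inCorner_self he.idem).smul c))
        ).resolve_left (hne c)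
      refine ⟨w * w', hw.mul hw', ?_⟩
      rw [Multiset.map_cons, Multiset.prod_cons, map_mul, mul_assoc, ← mul_assoc (aeval a _) w,
        hwe, ← mul_assoc, map_sub, aeval_X, aeval_C, sub_mul, ha.2, ← Algebra.smul_def, h]
  obtain ⟨w, -, hw⟩ := key f.roots
  rw [← (IsAlgClosed.splits f).eq_prod_roots_of_monic hf, aeval_def, hfa, zero_mul] at hw
  exact he.ne_zero hw.symm

open scoped Classical in
/-- The residue of `e * a * e` in the corner of `e`. -/
noncomputable def resIdem (k : Type*) [Field k] {A : Type*} [Ring A] [Algebra k A] (e a : A) : k :=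
  if h : ∃ c : k, IsNilpotent (e * a * e - c • e) then h.choose else 0

theorem IsPrimIdem.isNilpotent_sub_resIdem {e : A} (he : IsPrimIdem e) (a : A) :
    IsNilpotent (e * a * e - resIdem k e a • e) := by
  have h := he.exists_residue (k := k) (inCorner_sandwich he.idem a)
  rw [resIdem, dif_pos h]
  exact h.choose_spec

theorem IsPrimIdem.resIdem_eq {e : A} (he : IsPrimIdem e) {a : A} {c : k}
    (h : IsNilpotent (e * a * e - c • e)) : resIdem k e a = c := by
  by_contra hne
  have hc := inCorner_self he.idem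
  have ha := inCorner_sandwich he.idem a
  have h1 := he.isNilpotent_add k h (ha.sub (hc.smul c))
    (he.isNilpotent_sub_resIdem (k := k) a).neg
    (by rw [neg_sub]; exact (hc.smul _).sub ha)
  rw [neg_sub, add_comm, sub_add_sub_cancel, ← sub_smul] at h1
  obtain ⟨j, hj⟩ := h1
  rw [smul_pow] at hj
  have he1 : e ^ (j + 1) = e := (show IsIdempotentElem e from he.idem).pow_succ_eq j
  have h2 : (resIdem k e a - c) ^ j • e = 0 := by
    calc (resIdem k e a - c) ^ j • e = ((resIdem k e a - c) ^ j • e ^ j) * e := by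
          rw [smul_mul_assoc, ← pow_succ, he1]
      _ = 0 := by rw [hj, zero_mul]
  exact he.ne_zero ((smul_eq_zero.1 h2).resolve_left (pow_ne_zero _ (sub_ne_zero.2 hne)))

theorem IsPrimIdem.resIdem_sandwich {e : A} (he : IsPrimIdem e) (a : A) :
    resIdem k e (e * a * e) = resIdem k e a := by
  refine he.resIdem_eq ?_
  rw [(inCorner_sandwich he.idem a).1, (inCorner_sandwich he.idem a).2]
  exact he.isNilpotent_sub_resIdem a

theorem IsPrimIdem.resIdem_self {e : A} (he : IsPrimIdem e) : resIdem k e e = 1 :=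
  he.resIdem_eq (by rw [he.idem, he.idem, one_smul, sub_self]; exact IsNilpotent.zero)

theorem IsPrimIdem.resIdem_add {e : A} (he : IsPrimIdem e) (a b : A) :
    resIdem k e (a + b) = resIdem k e a + resIdem k e b := by
  have hc := inCorner_self he.idem
  refine he.resIdem_eq ?_
  rw [mul_add, add_mul, add_smul, add_sub_add_comm]
  exact he.isNilpotent_add k (he.isNilpotent_sub_resIdem a)
    ((inCorner_sandwich he.idem a).sub (hc.smul _)) (he.isNilpotent_sub_resIdem b)
    ((inCorner_sandwich he.idem b).sub (hc.smul _))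

theorem IsPrimIdem.resIdem_smul {e : A} (he : IsPrimIdem e) (c : k) (a : A) :
    resIdem k e (c • a) = c * resIdem k e a := by
  refine he.resIdem_eq ?_
  rw [mul_smul_comm, smul_mul_assoc, mul_smul, ← smul_sub]
  exact (he.isNilpotent_sub_resIdem a).smul c

theorem IsPrimIdem.resIdem_mul {e : A} (he : IsPrimIdem e) (a b : A) :
    resIdem k e (a * e * b) = resIdem k e a * resIdem k e b := by
  refine he.resIdem_eq ?_
  have hc := inCorner_self he.idem
  set α := resIdem k e a
  set β := resIdem k e b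
  set n := e * a * e - α • e with hn
  set m := e * b * e - β • e with hm
  have hnc : InCorner e n := (inCorner_sandwich he.idem a).sub (hc.smul _)
  have hmc : InCorner e m := (inCorner_sandwich he.idem b).sub (hc.smul _)
  have hprod : e * (a * e * b) * e = (e * a * e) * (e * b * e) := by
    simp only [mul_assoc]
    rw [← mul_assoc e e (b * e), he.idem]
  have : e * (a * e * b) * e - (α * β) • e = α • m + (β • n + n * m) := by
    rw [hprod, show e * a * e = n + α • e from (sub_add_cancel _ _).symm,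
      show e * b * e = m + β • e from (sub_add_cancel _ _).symm]
    simp only [add_mul, mul_add, smul_mul_assoc, mul_smul_comm, hmc.1, hnc.2, he.idem, smul_smul]
    module
  rw [this]
  exact he.isNilpotent_add k ((he.isNilpotent_sub_resIdem b).smul α) (hmc.smul α)
    (he.isNilpotent_add k ((he.isNilpotent_sub_resIdem a).smul β) (hnc.smul β)
      (he.isNilpotent_mul_left k (he.isNilpotent_sub_resIdem b) hmc hnc) (hnc.mul hmc))
    ((hnc.smul β).add (hnc.mul hmc))

/-- Equivalence of idempotents. -/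
def IdemEquiv (e f : A) : Prop :=
  ∃ α β : A, e * α * f = α ∧ f * β * e = β ∧ α * β = e ∧ β * α = f

theorem idemEquiv_refl {e : A} (he : e * e = e) : IdemEquiv e e :=
  ⟨e, e, by rw [he, he], by rw [he, he], he, he⟩

theorem IdemEquiv.symm {e f : A} (h : IdemEquiv e f) : IdemEquiv f e :=
  let ⟨α, β, h1, h2, h3, h4⟩ := h
  ⟨β, α, h2, h1, h4, h3⟩

theorem IsPrimIdem.idemEquiv {e f : A} (he : IsPrimIdem e) (hf : IsPrimIdem f) {a b : A}
    (h : resIdem k e (a * f * b) ≠ 0) : IdemEquiv e f := by
  have hab : InCorner e (e * (a * f * b) * e) := inCorner_sandwich he.idem _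
  rcases he.isNilpotent_or k hab with hn | ⟨w, hw, hw1, hw2⟩
  · exact absurd (he.resIdem_eq (c := 0) (by rwa [zero_smul, sub_zero])) h
  set α := e * a * f with hα
  set β := f * b * e * w with hβ
  have hαβ : α * β = e := by
    rw [hα, hβ]
    refine Eq.trans ?_ hw1
    simp only [mul_assoc]
    rw [← mul_assoc f f, hf.idem]
  have hαe : e * α * f = α := by
    rw [hα]
    simp only [← mul_assoc, he.idem]
    rw [mul_assoc (e * a), hf.idem]
  have hβe : f * β * e = β := by
    rw [hβ]
    simp only [← mul_assoc, hf.idem]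
    rw [mul_assoc (f * b * e), hw.2]
  have heα : e * α = α := by rw [hα]; simp only [← mul_assoc, he.idem]
  refine ⟨α, β, hαe, hβe, hαβ, (hf.prim (β * α) ?_ ?_ ?_).resolve_left fun h0 => he.ne_zero ?_⟩
  · rw [mul_assoc, ← mul_assoc α, hαβ, heα]
  · rw [← mul_assoc, show f * β = β by rw [hβ]; simp only [← mul_assoc, hf.idem]]
  · rw [mul_assoc, show α * f = α by rw [hα, mul_assoc, hf.idem]]
  · calc e = (α * β) * (α * β) := by rw [hαβ, he.idem]
      _ = α * (β * α) * β := by simp only [mul_assoc]
      _ = 0 := by rw [h0, mul_zero, zero_mul]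

theorem IsPrimIdem.resIdem_transport {e f : A} (he : IsPrimIdem e) (hf : IsPrimIdem f)
    {α β : A} (hα : e * α * f = α) (hβ : f * β * e = β) (hαβ : α * β = e) (hβα : β * α = f)
    (z : A) : resIdem k f (β * z * α) = resIdem k e z := by
  have hβe : β * e = β := by rw [← hβ, mul_assoc, he.idem]
  have heα : e * α = α := by rw [← hα, ← mul_assoc, ← mul_assoc, he.idem]
  refine hf.resIdem_eq ?_
  set n := e * z * e - resIdem k e z • e with hn
  have hfβ : f * β = β := by rw [← hβα, mul_assoc, hαβ, hβe]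
  have hαf : α * f = α := by rw [← hβα, ← mul_assoc, hαβ, heα]
  have e1 : f * (β * z * α) * f - resIdem k e z • f = β * n * α := by
    have e2 : β * (e * z * e) * α = β * z * α := by
      simp only [mul_assoc]
      rw [heα, ← mul_assoc β e, hβe]
    rw [← mul_assoc f (β * z), ← mul_assoc f β z, hfβ, mul_assoc (β * z) α f, hαf, hn, mul_sub,
      sub_mul, e2, mul_smul_comm, smul_mul_assoc, hβe, hβα]
  rw [e1]
  obtain ⟨j, hj⟩ := he.isNilpotent_sub_resIdem (k := k) z
  refine ⟨j + 1, ?_⟩
  have hne : ∀ i, (β * n * α) ^ (i + 1) = β * n ^ (i + 1) * α := by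
    intro i
    induction i with
    | zero => simp
    | succ i ih =>
      rw [pow_succ, ih, pow_succ n]
      simp only [mul_assoc]
      rw [← mul_assoc α β, hαβ, ← mul_assoc e n, show e * n = n by
        rw [hn, mul_sub, mul_smul_comm, he.idem, ← mul_assoc, ← mul_assoc, he.idem]]
      simp only [pow_succ, mul_assoc]
  rw [hne, pow_succ, hn, hj, zero_mul, mul_zero, zero_mul]

/-- The left ideal killed by the residue of the corner of `e`. -/
noncomputable def idemKer {e : A} (he : IsPrimIdem e) : Submodule k A where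
  carrier := {v | ∀ y, resIdem k e (y * v) = 0}
  zero_mem' := fun y => by
    rw [mul_zero, ← zero_smul k (0 : A), he.resIdem_smul, zero_mul]
  add_mem' := fun {a b} ha hb y => by rw [mul_add, he.resIdem_add, ha, hb, add_zero]
  smul_mem' := fun c a ha y => by rw [mul_smul_comm, he.resIdem_smul, ha, mul_zero]

theorem mem_idemKer {e : A} (he : IsPrimIdem e) {v : A} :
    v ∈ idemKer (k := k) he ↔ ∀ y, resIdem k e (y * v) = 0 := Iff.rfl

/-- The simple module attached to `e`. -/
noncomputable def idemRep {e : A} (he : IsPrimIdem e) :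
    A →ₗ[k] Module.End k (A ⧸ idemKer (k := k) he) where
  toFun a := (idemKer (k := k) he).mapQ (idemKer (k := k) he) (LinearMap.mulLeft k a)
    fun v hv y => by rw [LinearMap.mulLeft_apply, ← mul_assoc]; exact hv (y * a)
  map_add' a b := Submodule.linearMap_qext _ (LinearMap.ext fun v =>
    congrArg Submodule.Quotient.mk (add_mul a b v))
  map_smul' c a := Submodule.linearMap_qext _ (LinearMap.ext fun v =>
    congrArg Submodule.Quotient.mk (smul_mul_assoc c a v))

/-- The trace functional attached to `e`. -/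
noncomputable def idemTr {e : A} (he : IsPrimIdem e) : A →ₗ[k] k :=
  (LinearMap.trace k _).comp (idemRep he)

theorem IsPrimIdem.sub_mul_mem_idemKer {e : A} (he : IsPrimIdem e) (v : A) :
    v * e - v ∈ idemKer (k := k) he := fun y => by
  rw [mul_sub, sub_eq_add_neg, ← neg_one_smul k (y * v), he.resIdem_add, he.resIdem_smul,
    ← he.resIdem_sandwich (y * (v * e)), ← he.resIdem_sandwich (y * v),
    show e * (y * (v * e)) * e = e * (y * v) * e by
      simp only [mul_assoc, he.idem]]
  ring

theorem idemTr_of_idemEquiv {e f : A} (he : IsPrimIdem e) (hf : IsPrimIdem f)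
    (h : IdemEquiv e f) : idemTr (k := k) he f = 1 := by
  obtain ⟨α, β, h1, h2, h3, h4⟩ := h
  have hc : ∀ v ∈ idemKer (k := k) he, resIdem k e (α * v) = 0 := fun v hv => hv α
  let c0 : A →ₗ[k] k :=
    { toFun := fun v => resIdem k e (α * v)
      map_add' := fun a b => by rw [mul_add, he.resIdem_add]
      map_smul' := fun r a => by
        rw [mul_smul_comm, he.resIdem_smul, RingHom.id_apply, smul_eq_mul] }
  let c : (A ⧸ idemKer (k := k) he) →ₗ[k] k :=
    Submodule.liftQ _ c0 fun v hv => LinearMap.mem_ker.2 (hc v hv)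
  have key : idemRep (k := k) he f = c.smulRight (Submodule.Quotient.mk β : A ⧸ idemKer (k := k) he) := by
    refine Submodule.linearMap_qext _ (LinearMap.ext fun v => ?_)
    show (Submodule.Quotient.mk (f * v) : A ⧸ idemKer (k := k) he) = c0 v • Submodule.Quotient.mk β
    rw [← Submodule.Quotient.mk_smul, Submodule.Quotient.eq]
    intro y
    rw [mul_sub, sub_eq_add_neg, ← neg_one_smul k (y * (c0 v • β)), he.resIdem_add,
      he.resIdem_smul, mul_smul_comm, he.resIdem_smul]
    have h5 : resIdem k e (y * (f * v)) = resIdem k e (y * β) * resIdem k e (α * v) := by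
      rw [← he.resIdem_mul]
      congr 1
      rw [mul_assoc y β e, show β * e = β by rw [← h2, mul_assoc, he.idem], ← h4]
      simp only [mul_assoc]
    rw [h5]
    show _ + -1 * (resIdem k e (α * v) * _) = (0 : k)
    ring
  show LinearMap.trace k _ (idemRep he f) = 1
  rw [key, LinearMap.trace_smulRight]
  show resIdem k e (α * β) = 1
  rw [h3, he.resIdem_self]

theorem idemTr_eq_zero {e f : A} (he : IsPrimIdem e) (hf : IsPrimIdem f)
    (h : ¬ IdemEquiv e f) : idemTr (k := k) he f = 0 := by
  have key : idemRep (k := k) he f = 0 := by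
    refine Submodule.linearMap_qext _ (LinearMap.ext fun v => ?_)
    show Submodule.Quotient.mk (f * v) = 0
    refine (Submodule.Quotient.mk_eq_zero _).2 fun y => ?_
    by_contra hne
    refine h (he.idemEquiv hf (k := k) (a := y) (b := v) ?_)
    rwa [mul_assoc]
  show LinearMap.trace k _ (idemRep he f) = 0
  rw [key, map_zero]

theorem idemTr_congr {e f : A} (he : IsPrimIdem e) (hf : IsPrimIdem f)
    (h : IdemEquiv e f) : idemTr (k := k) he = idemTr (k := k) hf := by
  obtain ⟨α, β, h1, h2, h3, h4⟩ := h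
  have hmap : ∀ {e f α β : A} (he : IsPrimIdem e) (hf : IsPrimIdem f), e * α * f = α →
      f * β * e = β → α * β = e → β * α = f →
      idemKer (k := k) he ≤ (idemKer (k := k) hf).comap (LinearMap.mulRight k α) := by
    intro e f α β he hf h1 h2 h3 h4 v hv y
    rw [LinearMap.mulRight_apply, ← hf.resIdem_sandwich,
      show f * (y * (v * α)) * f = β * (α * (y * v)) * α by
        rw [← h4]
        simp only [mul_assoc]
        rw [← mul_assoc α β α, h3, show e * α = α by
          rw [← h1, ← mul_assoc, ← mul_assoc, he.idem]],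
      he.resIdem_transport hf h1 h2 h3 h4, ← mul_assoc]
    exact hv _
  let F := (idemKer (k := k) he).mapQ (idemKer (k := k) hf) (LinearMap.mulRight k α)
    (hmap he hf h1 h2 h3 h4)
  let F' := (idemKer (k := k) hf).mapQ (idemKer (k := k) he) (LinearMap.mulRight k β)
    (hmap hf he h2 h1 h4 h3)
  let E : (A ⧸ idemKer (k := k) he) ≃ₗ[k] (A ⧸ idemKer (k := k) hf) :=
    LinearEquiv.ofLinearMap F F'
      (Submodule.linearMap_qext _ (LinearMap.ext fun v => by
        show Submodule.Quotient.mk (v * β * α) = Submodule.Quotient.mk v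
        rw [mul_assoc, h4, Submodule.Quotient.eq]
        exact hf.sub_mul_mem_idemKer v))
      (Submodule.linearMap_qext _ (LinearMap.ext fun v => by
        show Submodule.Quotient.mk (v * α * β) = Submodule.Quotient.mk v
        rw [mul_assoc, h3, Submodule.Quotient.eq]
        exact he.sub_mul_mem_idemKer v))
  refine LinearMap.ext fun a => ?_
  show LinearMap.trace k _ (idemRep he a) = LinearMap.trace k _ (idemRep hf a)
  rw [← LinearMap.trace_conj' (idemRep he a) E]
  congr 1
  refine Submodule.linearMap_qext _ (LinearMap.ext fun v => ?_)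
  show Submodule.Quotient.mk (a * (v * β) * α) = Submodule.Quotient.mk (a * v)
  rw [mul_assoc a, mul_assoc v, h4, Submodule.Quotient.eq, ← mul_assoc]
  exact hf.sub_mul_mem_idemKer _

theorem IsPrimIdem.map_algEquiv {e : A} (he : IsPrimIdem e) (σ : A ≃ₐ[k] A) :
    IsPrimIdem (σ e) where
  idem := by rw [← map_mul, he.idem]
  ne_zero h := he.ne_zero (σ.injective (by rw [h, map_zero]))
  prim f h1 h2 h3 := by
    have h2' : e * σ.symm f = σ.symm f := by
      have := congrArg σ.symm h2
      rwa [map_mul, AlgEquiv.symm_apply_apply] at this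
    have h3' : σ.symm f * e = σ.symm f := by
      have := congrArg σ.symm h3
      rwa [map_mul, AlgEquiv.symm_apply_apply] at this
    rcases he.prim (σ.symm f) (by rw [← map_mul, h1]) h2' h3' with h | h
    · exact Or.inl (by rw [← σ.apply_symm_apply f, h, map_zero])
    · exact Or.inr (by rw [← σ.apply_symm_apply f, h])

theorem idemTr_map_algEquiv {e : A} (he : IsPrimIdem e) (σ : A ≃ₐ[k] A) (a : A) :
    idemTr (k := k) (he.map_algEquiv σ) (σ a) = idemTr (k := k) he a := by
  have hs : ∀ z, resIdem k (σ e) (σ z) = resIdem k e z := by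
    intro z
    refine (he.map_algEquiv σ).resIdem_eq ?_
    rw [← map_mul, ← map_mul, ← map_smul, ← map_sub]
    exact (he.isNilpotent_sub_resIdem z).map σ
  have hker : Submodule.map (σ.toLinearEquiv : A →ₗ[k] A) (idemKer (k := k) he) =
      idemKer (k := k) (he.map_algEquiv σ) := by
    ext v
    obtain ⟨w, rfl⟩ := σ.surjective v
    rw [Submodule.mem_map]
    constructor
    · rintro ⟨u, hu, huv⟩ y
      obtain rfl : u = w := σ.injective huv
      obtain ⟨z, rfl⟩ := σ.surjective y
      rw [← map_mul, hs]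
      exact hu z
    · intro hv
      refine ⟨w, fun z => ?_, rfl⟩
      rw [← hs, map_mul]
      exact hv _
  show LinearMap.trace k _ (idemRep (he.map_algEquiv σ) (σ a)) =
    LinearMap.trace k _ (idemRep he a)
  rw [← LinearMap.trace_conj' (idemRep he a) (Submodule.Quotient.equiv _ _ σ.toLinearEquiv hker)]
  congr 1
  refine Submodule.linearMap_qext _ (LinearMap.ext fun v => ?_)
  show Submodule.Quotient.mk (σ a * v) = Submodule.Quotient.mk (σ (a * σ.symm v))
  rw [map_mul, AlgEquiv.apply_symm_apply]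

/-- An invariant additive function vanishes in characteristic `p` on twisted traces. -/
theorem eq_zero_of_eq_twisted_sum {p : ℕ} [CharP k p] (σ : A ≃ₐ[k] A) (N : A → k) (h0 : N 0 = 0)
    (hadd : IsIdemAdditive N)
    (hequiv : ∀ f f' : A, IsPrimIdem f → IsPrimIdem f' → IdemEquiv f f' → N f = N f')
    (hσN : ∀ f, f * f = f → N (σ f) = N f)
    {e a : A} (he : e * e = e) (hσe : σ e = e)
    (hea : e = ∑ i ∈ Finset.range p, (σ ^ i) a) : N e = 0 := by
  classical
  obtain ⟨J, hJ, hJe, hJN⟩ := exists_prim_decomposition k he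
  let φ : {j // j ∈ J} → (A →ₗ[k] k) := fun j => idemTr (k := k) (hJ j.1 j.2).1
  let R := J.attach.image φ
  have hrep : ∀ ψ ∈ R, ∃ j : {j // j ∈ J}, φ j = ψ := fun ψ hψ => by
    obtain ⟨j, -, h⟩ := Finset.mem_image.1 hψ
    exact ⟨j, h⟩
  obtain hJ0 | hJ0 := J.eq_empty_or_nonempty
  · rw [hJN N h0 hadd, hJ0, Finset.sum_empty]
  have : Nonempty {j // j ∈ J} := hJ0.to_subtype
  choose! rep hrep using hrep
  have hφ : ∀ i j : {j // j ∈ J}, φ i = φ j → IdemEquiv (i : A) j := by
    intro i j h
    by_contra hne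
    have := idemTr_eq_zero (k := k) (hJ i.1 i.2).1 (hJ j.1 j.2).1 hne
    rw [show idemTr (k := k) (hJ i.1 i.2).1 = φ j from h] at this
    exact one_ne_zero ((idemTr_of_idemEquiv (k := k) (hJ j.1 j.2).1 (hJ j.1 j.2).1
      (idemEquiv_refl (hJ j.1 j.2).1.idem)).symm.trans this)
  have hNrep : ∀ j : {j // j ∈ J}, N (rep (φ j) : A) = N (j : A) := fun j => by
    have hj : φ j ∈ R := Finset.mem_image_of_mem φ (Finset.mem_attach _ _)
    exact hequiv _ _ (hJ _ (rep (φ j)).2).1 (hJ _ j.2).1 (hφ _ _ (hrep _ hj))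
  let Φ : A →ₗ[k] k := ∑ ψ ∈ R, N (rep ψ : A) • ψ
  have hφ1 : ∀ j : {j // j ∈ J}, φ j (j : A) = 1 := fun j =>
    idemTr_of_idemEquiv (k := k) _ (hJ _ j.2).1 (idemEquiv_refl (hJ _ j.2).1.idem)
  have hΦJ : ∀ j : {j // j ∈ J}, Φ (j : A) = N j := by
    intro j
    simp only [Φ, LinearMap.sum_apply, LinearMap.smul_apply, smul_eq_mul]
    rw [Finset.sum_eq_single_of_mem (φ j) (Finset.mem_image_of_mem φ (Finset.mem_attach _ _))]
    · rw [hNrep, hφ1, mul_one]
    · intro ψ hψ hne
      have h1 := hrep ψ hψ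
      have h0' : φ (rep ψ) (j : A) = 0 :=
        idemTr_eq_zero (k := k) _ (hJ _ j.2).1 fun h => hne (h1.symm.trans
          (idemTr_congr (k := k) (hJ _ (rep ψ).2).1 (hJ _ j.2).1 h))
      rw [h1] at h0'
      rw [h0', mul_zero]
  have hΦe : Φ e = N e := by
    conv_lhs => rw [← hJe]
    rw [map_sum, hJN N h0 hadd, ← Finset.sum_attach J fun j => Φ j,
      ← Finset.sum_attach J fun j => N j]
    exact Finset.sum_congr rfl fun j _ => hΦJ j
  -- `σ` permutes the functionals
  have hperm : ∀ j : {j // j ∈ J}, ∃ i : {j // j ∈ J},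
      φ j ∘ₗ σ.toLinearMap = φ i ∧ N (i : A) = N j := by
    intro j
    have hp := (hJ _ j.2).1.map_algEquiv σ.symm
    have hcor : InCorner e (σ.symm (j : A)) := by
      have h := (hJ _ j.2).2
      constructor
      · rw [← σ.symm_apply_apply e, hσe, ← map_mul, h.1]
      · rw [← σ.symm_apply_apply e, hσe, ← map_mul, h.2]
    have hone : resIdem k (σ.symm (j : A))
        (∑ i ∈ J, σ.symm (j : A) * i * σ.symm (j : A)) = 1 := by
      rw [← Finset.sum_mul, ← Finset.mul_sum, hJe, hcor.2, hp.idem, hp.resIdem_self]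
    let S : A →+ k := AddMonoidHom.mk' (resIdem k (σ.symm (j : A))) hp.resIdem_add
    rw [show resIdem k (σ.symm (j : A)) (∑ i ∈ J, σ.symm (j : A) * i * σ.symm (j : A)) =
      S (∑ i ∈ J, σ.symm (j : A) * i * σ.symm (j : A)) from rfl, map_sum] at hone
    obtain ⟨i, hi, hine⟩ := Finset.exists_ne_zero_of_sum_ne_zero (hone.trans_ne one_ne_zero)
    have heqv := hp.idemEquiv (hJ i hi).1 hine
    refine ⟨⟨i, hi⟩, ?_, ?_⟩
    · rw [show φ ⟨i, hi⟩ = idemTr (k := k) hp from (idemTr_congr hp (hJ i hi).1 heqv).symm]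
      refine LinearMap.ext fun x => ?_
      show idemTr (k := k) (hJ _ j.2).1 (σ x) = _
      have := idemTr_map_algEquiv (k := k) (hJ _ j.2).1 σ.symm (σ x)
      rw [σ.symm_apply_apply] at this
      exact this.symm
    · rw [← hequiv _ _ hp (hJ i hi).1 heqv]
      have := hσN (σ.symm (j : A)) hp.idem
      rw [σ.apply_symm_apply] at this
      exact this.symm
  have hmaps : ∀ ψ ∈ R, ψ ∘ₗ σ.toLinearMap ∈ R ∧
      N (rep (ψ ∘ₗ σ.toLinearMap) : A) = N (rep ψ : A) := by
    intro ψ hψ
    obtain ⟨j, -, rfl⟩ := Finset.mem_image.1 hψ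
    obtain ⟨i, hi, hN⟩ := hperm j
    rw [hi, hNrep, hNrep, hN]
    exact ⟨Finset.mem_image_of_mem φ (Finset.mem_attach _ _), rfl⟩
  have hinj : Set.InjOn (fun ψ : A →ₗ[k] k => ψ ∘ₗ σ.toLinearMap) R := fun a _ b _ h => by
    refine LinearMap.ext fun x => ?_
    obtain ⟨y, rfl⟩ := σ.surjective x
    exact LinearMap.congr_fun h y
  have himg : R.image (fun ψ : A →ₗ[k] k => ψ ∘ₗ σ.toLinearMap) = R :=
    Finset.eq_of_subset_of_card_le
      (Finset.image_subset_iff.2 fun ψ hψ => (hmaps ψ hψ).1)
      (Finset.card_image_of_injOn hinj).ge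
  have hΦσ : ∀ x, Φ (σ x) = Φ x := by
    intro x
    simp only [Φ, LinearMap.sum_apply, LinearMap.smul_apply, smul_eq_mul]
    conv_rhs => rw [← himg]
    rw [Finset.sum_image hinj]
    refine Finset.sum_congr rfl fun ψ hψ => ?_
    rw [(hmaps ψ hψ).2]
    rfl
  have hΦpow : ∀ (i : ℕ) x, Φ ((σ ^ i) x) = Φ x := by
    intro i
    induction i with
    | zero => simp
    | succ i ih => intro x; rw [pow_succ, AlgEquiv.mul_apply, ih, hΦσ]
  rw [← hΦe, hea, map_sum, Finset.sum_congr rfl fun i _ => hΦpow i a, Finset.sum_const,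
    Finset.card_range, nsmul_eq_mul, CharP.cast_eq_zero, zero_mul]

end Cfsg.Agent.H40
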