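import Cfsg.Agent.H40.RegularBlocks
import Cfsg.Agent.H40.CentricDefect
import Cfsg.Agent.H44.Inflation
import Cfsg.Agent.H42.BlockSpan

/-!
# The quotient by a normal `p`-subgroup `Q` of `G = Q C(Q)`
-/

set_option autoImplicit false
set_option linter.unusedSectionVars false

open scoped ComplexConjugate

namespace Cfsg.Agent.H40

open Cfsg
open Cfsg.Agent.H44 (inflate)
open Cfsg.Agent.H42 (regRes)

variable {G : Type*} [Group G] [Fintype G] {p : ℕ} [hp : Fact p.Prime] {Q : Subgroup G} [Q.Normal]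

theorem orderOf_mk_dvd (g : G) : orderOf (g : G ⧸ Q) ∣ orderOf g :=
  orderOf_map_dvd (QuotientGroup.mk' Q) g

/-- Every regular element of the quotient has a regular preimage. -/
theorem exists_regular_lift (hQ : IsPGroup p Q) {q : G ⧸ Q} (hq : ¬ p ∣ orderOf q) :
    ∃ g : G, ¬ p ∣ orderOf g ∧ (g : G ⧸ Q) = q := by
  obtain ⟨g, rfl⟩ := QuotientGroup.mk_surjective q
  obtain ⟨x, y, hy, hc, ⟨j, hj⟩, hreg⟩ := exists_isPPart p g
  refine ⟨y, hreg, ?_⟩
  have hpp : IsPPart p g x := ⟨y, hy, hc, ⟨j, hj⟩, hreg⟩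
  obtain ⟨k, hk⟩ := exists_pow_eq_of_isPPart hpp
  have h1 : orderOf (x : G ⧸ Q) ∣ p ^ j := hj ▸ orderOf_mk_dvd x
  have h2 : orderOf (x : G ⧸ Q) ∣ orderOf (g : G ⧸ Q) := by
    rw [← hk, QuotientGroup.mk_pow]
    exact orderOf_pow_dvd k
  have h3 : orderOf (x : G ⧸ Q) = 1 := by
    obtain ⟨i, -, hi⟩ := (Nat.dvd_prime_pow hp.out).1 h1
    rcases Nat.eq_zero_or_pos i with rfl | hi0
    · simpa using hi
    · exact absurd ((hi ▸ dvd_pow_self p hi0.ne').trans h2) hq
  rw [← hy, QuotientGroup.mk_mul, orderOf_eq_one_iff.1 h3, one_mul]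

/-- Regular elements with one image are equal. -/
theorem regular_lift_unique (hQ : IsPGroup p Q)
    (hsup : Q ⊔ Subgroup.centralizer (Q : Set G) = ⊤) {s t : G} (hs : ¬ p ∣ orderOf s)
    (ht : ¬ p ∣ orderOf t) (h : (s : G ⧸ Q) = t) : s = t := by
  have hsC := mem_centralizer_of_regular hQ hsup hs
  have hu : s⁻¹ * t ∈ Q := QuotientGroup.eq.1 h
  set u := s⁻¹ * t with hu'
  have ht' : t = s * u := by rw [hu']; group
  have hc : Commute s u := ((Subgroup.mem_centralizer_iff.1 hsC) u hu).symm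
  obtain ⟨j, hj⟩ : ∃ j, orderOf u = p ^ j := by
    obtain ⟨j, hj⟩ := IsPGroup.iff_orderOf.1 hQ ⟨u, hu⟩
    exact ⟨j, by rwa [← Subgroup.orderOf_coe] at hj⟩
  rcases Nat.eq_zero_or_pos j with rfl | hj0
  · rw [pow_zero, orderOf_eq_one_iff] at hj
    rw [ht', hj, mul_one]
  · refine absurd ?_ ht
    have hco : (orderOf s).Coprime (orderOf u) := by
      rw [hj]
      exact ((Nat.Prime.coprime_iff_not_dvd hp.out).2 hs).symm.pow_right j
    rw [ht', hc.orderOf_mul_eq_mul_orderOf_of_coprime hco, hj]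
    exact (dvd_pow_self p hj0.ne').mul_left _

/-- The centraliser of a regular element is the preimage of that of its image. -/
theorem index_centralizer_mk (hQ : IsPGroup p Q)
    (hsup : Q ⊔ Subgroup.centralizer (Q : Set G) = ⊤) {s : G} (hs : ¬ p ∣ orderOf s) :
    (Subgroup.centralizer ({(s : G ⧸ Q)} : Set (G ⧸ Q))).index =
      (Subgroup.centralizer ({s} : Set G)).index := by
  rw [← Subgroup.index_comap_of_surjective
    (Subgroup.centralizer ({(s : G ⧸ Q)} : Set (G ⧸ Q))) (QuotientGroup.mk'_surjective Q)]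
  congr 1
  ext g
  rw [Subgroup.mem_comap, QuotientGroup.mk'_apply, Subgroup.mem_centralizer_singleton_iff,
    Subgroup.mem_centralizer_singleton_iff, ← QuotientGroup.mk_mul, ← QuotientGroup.mk_mul]
  refine ⟨fun h => ?_, fun h => congrArg _ h⟩
  have h1 : (((g * s * g⁻¹ : G)) : G ⧸ Q) = (s : G ⧸ Q) := by
    rw [QuotientGroup.mk_mul, h, ← QuotientGroup.mk_mul, mul_inv_cancel_right]
  have := regular_lift_unique hQ hsup
    (show ¬ p ∣ orderOf (g * s * g⁻¹) by rwa [← MulAut.conj_apply, MulEquiv.orderOf_eq]) hs h1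
  exact mul_inv_eq_iff_eq_mul.1 this

variable {M : Ideal Cfsg.AlgInt}

/-- Inflation respects and reflects blocks. -/
theorem sameBlock_inflate_iff (hM : Cfsg.IsPModular p M) (hQ : IsPGroup p Q)
    (hsup : Q ⊔ Subgroup.centralizer (Q : Set G) = ⊤) (χ ψ : Cfsg.IrrCharacter (G ⧸ Q)) :
    Cfsg.SameBlock M (inflate Q χ : G → ℂ) (inflate Q ψ : G → ℂ) ↔
      Cfsg.SameBlock M (χ : G ⧸ Q → ℂ) (ψ : G ⧸ Q → ℂ) := by
  have key : ∀ (φ : Cfsg.IrrCharacter (G ⧸ Q)) (s : G), ¬ p ∣ orderOf s →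
      Cfsg.centralChar (inflate Q φ : G → ℂ) s = Cfsg.centralChar (φ : G ⧸ Q → ℂ) (s : G ⧸ Q) := by
    intro φ s hs
    rw [Cfsg.centralChar, Cfsg.centralChar, index_centralizer_mk hQ hsup hs, H44.inflate_apply,
      H44.inflate_apply, QuotientGroup.mk_one]
  constructor
  · intro h
    refine sameBlock_of_regular hM fun q hq => ?_
    obtain ⟨s, hs, rfl⟩ := exists_regular_lift hQ hq
    rw [← key χ s hs, ← key ψ s hs]
    exact h s
  · intro h
    refine sameBlock_of_regular hM fun s hs => ?_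
    rw [key χ s hs, key ψ s hs]
    exact h _

open scoped Classical in
/-- The principal blocks of `G = Q C(Q)` and of `G / Q` have one rank. -/
theorem blockRank_principal_quotient (hM : Cfsg.IsPModular p M) (hQ : IsPGroup p Q)
    (hsup : Q ⊔ Subgroup.centralizer (Q : Set G) = ⊤) :
    Cfsg.blockRank p (Cfsg.principalBlock M G) =
      Cfsg.blockRank p (Cfsg.principalBlock M (G ⧸ Q)) := by
  have := hM.2.1
  have : Fintype (G ⧸ Q) := Fintype.ofFinite _
  have hB : Cfsg.IsPBlock M (Cfsg.principalBlock M G) := H41.isPBlock_principalBlock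
  set B := Cfsg.principalBlock M G with hBdef
  set B₁ := Cfsg.principalBlock M (G ⧸ Q) with hB₁def
  have hone : (inflate Q (H26.oneIrr (G ⧸ Q)) : G → ℂ) = fun _ => 1 := funext fun g => by
    rw [H44.inflate_apply, H26.oneIrr_val]
  have hone' : ((H26.oneIrr (G ⧸ Q)) : G ⧸ Q → ℂ) = fun _ => 1 := funext fun g => H26.oneIrr_val g
  have hmem : ∀ φ : Cfsg.IrrCharacter (G ⧸ Q), inflate Q φ ∈ B ↔ φ ∈ B₁ := by
    intro φ
    show Cfsg.SameBlock M (fun _ : G => (1 : ℂ)) (inflate Q φ : G → ℂ) ↔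
      Cfsg.SameBlock M (fun _ : G ⧸ Q => (1 : ℂ)) (φ : G ⧸ Q → ℂ)
    rw [← hone, ← hone']
    exact sameBlock_inflate_iff hM hQ hsup _ φ
  have hreg : ∀ g : G, ¬ p ∣ orderOf g → ¬ p ∣ orderOf (g : G ⧸ Q) :=
    fun g hg h => hg (h.trans (orderOf_mk_dvd g))
  let L : (G ⧸ Q → ℂ) →ₗ[ℂ] (G → ℂ) :=
    { toFun := fun f g => if p ∣ orderOf g then 0 else f (g : G ⧸ Q)
      map_add' := fun f f' => funext fun g => by by_cases h : p ∣ orderOf g <;> simp [h]
      map_smul' := fun c f => funext fun g => by by_cases h : p ∣ orderOf g <;> simp [h] }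
  have hL : ∀ φ : Cfsg.IrrCharacter (G ⧸ Q), L (Cfsg.pRegularPart p (φ : G ⧸ Q → ℂ)) =
      Cfsg.pRegularPart p (inflate Q φ : G → ℂ) := fun φ => funext fun g => by
    show (if p ∣ orderOf g then (0 : ℂ) else Cfsg.pRegularPart p (φ : G ⧸ Q → ℂ) (g : G ⧸ Q)) = _
    simp only [Cfsg.pRegularPart, Cfsg.IsPRegular]
    by_cases hg : p ∣ orderOf g
    · simp [hg]
    · simp [hg, hreg g hg, H44.inflate_apply]
  set W := Submodule.span ℂ ((fun χ : Cfsg.IrrCharacter (G ⧸ Q) =>
    Cfsg.pRegularPart p (χ : G ⧸ Q → ℂ)) '' B₁) with hWdef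
  set V := Submodule.span ℂ ((fun χ : Cfsg.IrrCharacter G =>
    Cfsg.pRegularPart p (χ : G → ℂ)) '' B) with hVdef
  have himg : W.map L = V := by
    refine le_antisymm ?_ (Submodule.span_le.2 ?_)
    · rw [hWdef, Submodule.map_span, Submodule.span_le]
      rintro _ ⟨_, ⟨φ, hφ, rfl⟩, rfl⟩
      rw [hL]
      exact Submodule.subset_span ⟨_, (hmem φ).2 hφ, rfl⟩
    · rintro _ ⟨χ, hχ, rfl⟩
      -- the regular part of `χ`, read on the quotient
      have hlift : ∀ q : G ⧸ Q, ∃ g : G, (g : G ⧸ Q) = q ∧ (¬ p ∣ orderOf q → ¬ p ∣ orderOf g) := by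
        intro q
        by_cases hq : p ∣ orderOf q
        · obtain ⟨g, rfl⟩ := QuotientGroup.mk_surjective q
          exact ⟨g, rfl, fun h => absurd hq h⟩
        · obtain ⟨g, hg, hgq⟩ := exists_regular_lift hQ hq
          exact ⟨g, hgq, fun _ => hg⟩
      choose r hr hrreg using hlift
      let f : G ⧸ Q → ℂ := fun q => if p ∣ orderOf q then 0 else (χ : G → ℂ) (r q)
      have hcl : Cfsg.IsClassFunction (G ⧸ Q) f := by
        intro q z
        have ho : orderOf (z * q * z⁻¹) = orderOf q := by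
          rw [← MulAut.conj_apply, MulEquiv.orderOf_eq]
        simp only [f, ho]
        split_ifs with hq
        · rfl
        · refine H26.irr_eq_of_isConj χ (isConj_iff.2 ⟨(r z)⁻¹, ?_⟩)
          refine regular_lift_unique hQ hsup ?_ (hrreg q hq) ?_
          · rw [show (r z)⁻¹ * r (z * q * z⁻¹) * (r z)⁻¹⁻¹ =
              MulAut.conj (r z)⁻¹ (r (z * q * z⁻¹)) from rfl, MulEquiv.orderOf_eq]
            exact hrreg _ (by rwa [ho])
          · simp only [QuotientGroup.mk_mul, QuotientGroup.mk_inv, hr]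
            group
      have hf : ∀ g : G, ¬ p ∣ orderOf g → f (g : G ⧸ Q) = (χ : G → ℂ) g := by
        intro g hg
        simp only [f, if_neg (hreg g hg)]
        rw [regular_lift_unique hQ hsup (hrreg _ (hreg g hg)) hg (hr _)]
      have hcoef : ∀ φ : Cfsg.IrrCharacter (G ⧸ Q), φ ∉ B₁ →
          Cfsg.classInner f (φ : G ⧸ Q → ℂ) = 0 := by
        intro φ hφ
        have h0 : Cfsg.classInner (regRes p (χ : G → ℂ)) (inflate Q φ : G → ℂ) = 0 := by
          rw [H42.classInner_regRes_eq, H42.regInt_eq_zero_of_notMem hM hB hχ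
            (fun h => hφ ((hmem φ).1 h)), Int.cast_zero, zero_div]
        rw [Cfsg.classInner] at h0 ⊢
        refine mul_eq_zero_of_right _ ?_
        rw [mul_eq_zero] at h0
        have h1 := h0.resolve_left (inv_ne_zero (Nat.cast_ne_zero.2 Nat.card_pos.ne'))
        rw [← h1]
        refine Finset.sum_bij_ne_zero (fun q _ _ => r q) (fun _ _ _ => Finset.mem_univ _)
          (fun a _ _ b _ _ h => by rw [← hr a, h, hr b]) (fun g _ hg => ?_) fun q _ hq => ?_
        · have hgr : ¬ p ∣ orderOf g := fun h => hg (by simp [H42.regRes_of_singular h])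
          have hrg := regular_lift_unique hQ hsup (hrreg _ (hreg g hgr)) hgr (hr _)
          refine ⟨(g : G ⧸ Q), Finset.mem_univ _, ?_, hrg⟩
          rw [hf g hgr]
          rwa [H42.regRes_of_regular hgr, H44.inflate_apply] at hg
        · have hqr : ¬ p ∣ orderOf q := fun h => hq (by simp [f, h])
          rw [H42.regRes_of_regular (hrreg q hqr), H44.inflate_apply, hr]
          simp [f, hqr]
      have hLf : L f = Cfsg.pRegularPart p (χ : G → ℂ) := funext fun g => by
        show (if p ∣ orderOf g then (0 : ℂ) else f (g : G ⧸ Q)) = _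
        simp only [Cfsg.pRegularPart, Cfsg.IsPRegular]
        by_cases hg : p ∣ orderOf g
        · simp [hg]
        · simp [hg, hf g hg]
      have hfW : f ∈ W := by
        have hexp : f = ∑ φ : Cfsg.IrrCharacter (G ⧸ Q), Cfsg.classInner f (φ : G ⧸ Q → ℂ) •
            Cfsg.pRegularPart p (φ : G ⧸ Q → ℂ) := funext fun q => by
          simp only [Finset.sum_apply, Pi.smul_apply, smul_eq_mul, Cfsg.pRegularPart,
            Cfsg.IsPRegular]
          by_cases hq : p ∣ orderOf q
          · simp [f, hq]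
          · simp only [hq, not_false_eq_true, if_true]
            have := congrFun (H26.class_function_expansion f hcl) q
            simpa [Finset.sum_apply] using this
        rw [hexp]
        refine Submodule.sum_mem _ fun φ _ => ?_
        by_cases hφ : φ ∈ B₁
        · exact Submodule.smul_mem _ _ (Submodule.subset_span ⟨φ, hφ, rfl⟩)
        · rw [hcoef φ hφ, zero_smul]; exact zero_mem _
      show Cfsg.pRegularPart p (χ : G → ℂ) ∈ W.map L
      rw [← hLf]
      exact Submodule.mem_map_of_mem hfW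
  have hsupp : ∀ w ∈ W, ∀ q : G ⧸ Q, p ∣ orderOf q → w q = 0 := by
    intro w hw q hq
    have hle : W ≤ LinearMap.ker (LinearMap.proj (R := ℂ) (φ := fun _ : G ⧸ Q => ℂ) q) := by
      rw [hWdef, Submodule.span_le]
      rintro _ ⟨φ, -, rfl⟩
      simp [Cfsg.pRegularPart, Cfsg.IsPRegular, hq]
    exact hle hw
  have hinj : Function.Injective (L.domRestrict W) := by
    rw [← LinearMap.ker_eq_bot, LinearMap.ker_eq_bot']
    rintro ⟨w, hw⟩ h
    refine Subtype.ext (funext fun q => ?_)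
    by_cases hq : p ∣ orderOf q
    · exact hsupp w hw q hq
    · obtain ⟨g, hg, rfl⟩ := exists_regular_lift hQ hq
      have := congrFun h g
      simpa [L, hg] using this
  rw [Cfsg.blockRank, Cfsg.blockRank, ← hVdef, ← hWdef, ← himg,
    ← LinearMap.finrank_range_of_inj hinj, LinearMap.range_domRestrict]

end Cfsg.Agent.H40
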