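import Cfsg.Agent.H40.BlockDefect
import Cfsg.Agent.H40.LocalArith
import Cfsg.Agent.H40.Nagao
import Cfsg.Agent.H22.PairAlgebra

/-!
# Lifting idempotents and traces at `p`-elements

Idempotents of invariant subalgebras lift from the residue field to the local ring, and the trace
at a `p`-element `u` of a lifted idempotent only depends on the Brauer image at `u`.
-/

set_option autoImplicit false
set_option maxHeartbeats 400000
set_option linter.unusedSectionVars false

namespace Cfsg.Agent.H40

open Cfsg.Agent.H41 (ResField localRing res)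
open Cfsg.Agent.H22 (cut Inv Supp)
open Polynomial

section InvAlg

variable {R : Type*} [CommRing R] {G : Type*} [Group G]

/-- The subalgebra of elements invariant under conjugation by `Q`. -/
noncomputable def invAlg (R : Type*) [CommRing R] {G : Type*} [Group G] (Q : Subgroup G) :
    Subalgebra R (MonoidAlgebra R G) :=
  Subalgebra.centralizer R (Set.range fun q : Q => MonoidAlgebra.of R G (q : G))

theorem mem_invAlg [Finite G] {Q : Subgroup G} {a : MonoidAlgebra R G} :
    a ∈ invAlg R Q ↔ ∀ q ∈ Q, ∀ x, a.coeff (q * x * q⁻¹) = a.coeff x := by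
  rw [invAlg, Subalgebra.mem_centralizer_iff]
  constructor
  · intro h q hq
    exact commute_of_iff.1 (h _ ⟨⟨q, hq⟩, rfl⟩).symm
  · rintro h _ ⟨⟨q, hq⟩, rfl⟩
    exact (commute_of_iff.2 (h q hq)).eq.symm

theorem invAlg_anti [Finite G] {Q Q' : Subgroup G} (h : Q ≤ Q') :
    invAlg R Q' ≤ invAlg R Q := fun _ ha => mem_invAlg.2 fun q hq => mem_invAlg.1 ha q (h hq)

theorem inv_iff_mem_invAlg [Finite G] {Q : Subgroup G} {a : MonoidAlgebra R G} :
    Inv Q a ↔ a ∈ invAlg R Q := by
  constructor
  · exact fun h => mem_invAlg.2 fun q hq => h.coeff hq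
  · intro h q hq
    apply ext_coeff
    intro x
    rw [Cfsg.Agent.H22.coeff_cj]
    simpa using mem_invAlg.1 h q⁻¹ (inv_mem hq) x

theorem supp_centralizer_mem_invAlg [Finite G] {Q : Subgroup G} {a : MonoidAlgebra R G}
    (ha : Supp (Subgroup.centralizer (Q : Set G)) a) : a ∈ invAlg R Q := by
  refine mem_invAlg.2 fun q hq x => ?_
  by_cases hx : x ∈ Subgroup.centralizer (Q : Set G)
  · rw [Subgroup.mem_centralizer_iff.1 hx q hq, mul_inv_cancel_right]
  · rw [ha.coeff_eq_zero hx, ha.coeff_eq_zero fun h => hx ?_]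
    have h1 := Subgroup.mem_centralizer_iff.1 h q hq
    have h2 : x = q * x * q⁻¹ := by
      calc x = q⁻¹ * (q * x * q⁻¹ * q) := by group
        _ = q⁻¹ * (q * (q * x * q⁻¹)) := by rw [h1]
        _ = q * x * q⁻¹ := by group
    rwa [h2]

end InvAlg

variable {p : ℕ} [Fact p.Prime] {M : Ideal Cfsg.AlgInt} [M.IsMaximal]

/-- The roots of monic polynomials over the local ring lie in the local ring. -/
theorem mem_localRing_of_root {f : Polynomial (localRing M)} (hf : f.Monic) {α : ℂ}
    (hα : aeval α f = 0) : α ∈ localRing M := by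
  classical
  have hc : ∀ i, ∃ a b : Cfsg.AlgInt, b ∉ M ∧ (a : ℂ) / (b : ℂ) = (f.coeff i : ℂ) := fun i =>
    (f.coeff i).2
  choose a b hb hab using hc
  set d : Cfsg.AlgInt := ∏ i ∈ Finset.range f.natDegree, b i with hd
  have hdM : d ∉ M := fun h => by
    obtain ⟨i, -, hi⟩ := (Ideal.IsPrime.prod_mem_iff).1 h
    exact hb i hi
  have hd0 : (d : ℂ) ≠ 0 := Cfsg.Agent.H41.coe_ne_zero_of_notMem hdM
  -- an integral equation for `d * α`
  let g : Polynomial Cfsg.AlgInt := X ^ f.natDegree + ∑ i ∈ Finset.range f.natDegree,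
    C (a i * d ^ (f.natDegree - i - 1) * ∏ j ∈ (Finset.range f.natDegree).erase i, b j) * X ^ i
  have hg : g.Monic := monic_X_pow_add (by
    refine (degree_sum_le _ _).trans_lt ?_
    refine (Finset.sup_lt_iff (WithBot.bot_lt_coe _)).2 fun i hi => ?_
    exact (degree_C_mul_X_pow_le _ _).trans_lt (by exact_mod_cast Finset.mem_range.1 hi))
  have hgα : aeval ((d : ℂ) * α) g = 0 := by
    have key : ∀ i ∈ Finset.range f.natDegree,
        ((a i * d ^ (f.natDegree - i - 1) * ∏ j ∈ (Finset.range f.natDegree).erase i, b j :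
          Cfsg.AlgInt) : ℂ) * ((d : ℂ) * α) ^ i =
          (d : ℂ) ^ f.natDegree * ((f.coeff i : ℂ) * α ^ i) := by
      intro i hi
      have hbi : (b i : ℂ) * ((∏ j ∈ (Finset.range f.natDegree).erase i, b j : Cfsg.AlgInt) : ℂ) =
          (d : ℂ) := by
        rw [← MulMemClass.coe_mul, Finset.mul_prod_erase _ _ hi]
      have hne : (b i : ℂ) ≠ 0 := Cfsg.Agent.H41.coe_ne_zero_of_notMem (hb i)
      rw [← hab i]
      push_cast
      obtain ⟨m, hm⟩ : ∃ m, f.natDegree = i + m + 1 :=
        ⟨f.natDegree - i - 1, by have := Finset.mem_range.1 hi; omega⟩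
      have he : f.natDegree - i - 1 = m := by omega
      rw [he, show (d : ℂ) ^ f.natDegree = (d : ℂ) ^ i * (d : ℂ) ^ m * (d : ℂ) by
        rw [hm, pow_succ, pow_add]]
      field_simp
      rw [← hbi]
      push_cast
      ring
    have hfsum : α ^ f.natDegree + ∑ i ∈ Finset.range f.natDegree, (f.coeff i : ℂ) * α ^ i = 0 := by
      rw [← hα]
      conv_rhs => rw [hf.as_sum]
      simp only [map_add, map_pow, aeval_X, map_sum, map_mul, aeval_C]
      rfl
    simp only [g, map_add, map_pow, aeval_X, map_sum, map_mul, aeval_C]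
    rw [Finset.sum_congr rfl fun i hi => Eq.trans (by push_cast; rfl) (key i hi), ← Finset.mul_sum,
      mul_pow, ← mul_add, hfsum, mul_zero]
  have hint : IsIntegral ℤ ((d : ℂ) * α) :=
    isIntegral_trans (A := Cfsg.AlgInt) _ ⟨g, hg, hgα⟩
  exact ⟨⟨_, hint⟩, d, hdM, by field_simp⟩

set_option synthInstance.maxHeartbeats 400000 in
/-- Idempotents lift along a homomorphism compatible with the residue map. -/
theorem exists_idem_of_map {A : Type*} [Ring A] [Algebra (localRing M) A] {B : Type*} [Ring B]
    [Algebra (ResField M) B] (φ : A →+* B)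
    (hφ : ∀ c : localRing M, φ (algebraMap (localRing M) A c) = algebraMap (ResField M) B (res M c))
    {a : A} (hint : IsIntegral (localRing M) a) (hidem : φ a * φ a = φ a) :
    ∃ w : A, Commute a w ∧ a * w * (a * w) = a * w ∧ φ (a * w) = φ a := by
  classical
  obtain ⟨f, hf, hfa⟩ := hint
  have hfX : (f * X).Monic := hf.mul monic_X
  let r : Multiset ℂ := ((f * X).map (algebraMap (localRing M) ℂ)).roots
  have hr : ∀ α ∈ r, α ∈ localRing M := fun α hα => mem_localRing_of_root hfX (by
    have := (mem_roots'.1 hα).2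
    rwa [IsRoot, eval_map_algebraMap] at this)
  let rl : Multiset (localRing M) := r.attach.map fun α => ⟨α.1, hr α.1 α.2⟩
  have hrl : rl.map (Subtype.val : localRing M → ℂ) = r := by
    simp [rl, Multiset.map_map]
  have hprod : f * X = (rl.map fun α => X - C α).prod := by
    refine Polynomial.map_injective (algebraMap (localRing M) ℂ) Subtype.val_injective ?_
    rw [Polynomial.map_multiset_prod, Multiset.map_map]
    conv_lhs => rw [(IsAlgClosed.splits _).eq_prod_roots_of_monic (hfX.map _)]
    show (r.map fun a => X - C a).prod = _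
    rw [← hrl, Multiset.map_map]
    refine congrArg _ (Multiset.map_congr rfl fun α _ => ?_)
    simp only [Function.comp, Polynomial.map_sub, Polynomial.map_X, Polynomial.map_C]
    rfl
  let f0 := ((rl.filter fun α => res M α = 0).map fun α => X - C α).prod
  let f1 := ((rl.filter fun α => ¬ res M α = 0).map fun α => X - C α).prod
  have hf01 : f * X = f0 * f1 := by
    rw [hprod, ← Multiset.prod_add, ← Multiset.map_add, Multiset.filter_add_not]
  obtain ⟨u, v, huv⟩ : IsCoprime f0 f1 := by
    refine Multiset.prod_induction (fun q => IsCoprime q f1) _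
      (fun _ _ => IsCoprime.mul_left) isCoprime_one_left fun q hq => ?_
    refine Multiset.prod_induction (fun q' => IsCoprime q q') _
      (fun _ _ => IsCoprime.mul_right) isCoprime_one_right fun q' hq' => ?_
    obtain ⟨α, hα, rfl⟩ := Multiset.mem_map.1 hq
    obtain ⟨β, hβ, rfl⟩ := Multiset.mem_map.1 hq'
    refine isCoprime_X_sub_C_of_isUnit_sub (Cfsg.Agent.H41.isUnit_iff_res_ne_zero.2 ?_)
    rw [map_sub, (Multiset.mem_filter.1 hα).2, zero_sub, neg_ne_zero]
    exact (Multiset.mem_filter.1 hβ).2
  have hzero_mem : (0 : localRing M) ∈ rl := by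
    have h0 : (0 : ℂ) ∈ r := by
      refine (mem_roots (hfX.map _).ne_zero).2 ?_
      simp [IsRoot]
    exact Multiset.mem_map.2 ⟨⟨0, h0⟩, Multiset.mem_attach _ _, rfl⟩
  obtain ⟨g0, hg0⟩ : X ∣ f0 := by
    have : X - C (0 : localRing M) ∈
        (rl.filter fun α => res M α = 0).map fun α => X - C α :=
      Multiset.mem_map.2 ⟨0, Multiset.mem_filter.2 ⟨hzero_mem, map_zero _⟩, rfl⟩
    simpa using Multiset.dvd_prod this
  have hzero : aeval a (f0 * f1) = 0 := by
    rw [← hf01, map_mul, aeval_def, hfa, zero_mul]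
  refine ⟨aeval a (u * g0), ?_, ?_, ?_⟩
  · have := (Commute.all (X : Polynomial (localRing M)) (u * g0)).map (aeval a)
    rwa [aeval_X] at this
  · have hE : a * aeval a (u * g0) = aeval a (u * f0) := by
      rw [hg0, show u * (X * g0) = X * (u * g0) by ring, map_mul (aeval a) X, aeval_X]
    rw [hE]
    have h1 : aeval a (u * f0) * aeval a (v * f1) = 0 := by
      rw [← map_mul, show u * f0 * (v * f1) = u * v * (f0 * f1) by ring, map_mul, hzero, mul_zero]
    have h2 : aeval a (u * f0) + aeval a (v * f1) = 1 := by rw [← map_add, huv, map_one]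
    conv_rhs => rw [← mul_one (aeval a (u * f0)), ← h2, mul_add, h1, add_zero]
  · have hev : ∀ q : Polynomial (localRing M), φ (aeval a q) =
        algebraMap (ResField M) B (res M (q.eval 0)) * (1 - φ a) +
          algebraMap (ResField M) B (res M (q.eval 1)) * φ a := by
      intro q
      induction q using Polynomial.induction_on' with
      | add q q' h h' =>
        rw [map_add (aeval a), map_add φ, h, h', eval_add, eval_add, map_add (res M), map_add (res M),
          map_add (algebraMap (ResField M) B), map_add (algebraMap (ResField M) B), add_mul, add_mul]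
        abel
      | monomial n c =>
        rw [aeval_monomial, map_mul, hφ, map_pow, eval_monomial, eval_monomial, one_pow, mul_one]
        cases n with
        | zero => rw [pow_zero, pow_zero, mul_one, mul_one, ← mul_add, sub_add_cancel, mul_one]
        | succ n =>
          rw [zero_pow (Nat.succ_ne_zero n), mul_zero, map_zero, map_zero, zero_mul, zero_add,
            (show IsIdempotentElem (φ a) from hidem).pow_succ_eq]
    have hE : a * aeval a (u * g0) = aeval a (u * f0) := by
      rw [hg0, show u * (X * g0) = X * (u * g0) by ring, map_mul (aeval a) X, aeval_X]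
    have h0 : (u * f0).eval 0 = 0 := by rw [hg0]; simp
    have hf0 : res M (f0.eval 1) = 1 := by
      simp only [f0, eval_multiset_prod, Multiset.map_map, map_multiset_prod]
      refine Multiset.prod_eq_one fun x hx => ?_
      obtain ⟨α, hα, rfl⟩ := Multiset.mem_map.1 hx
      simp [(Multiset.mem_filter.1 hα).2]
    have hf1 : algebraMap (ResField M) B (res M (f1.eval 1)) * φ a = 0 := by
      have h := hev (f0 * f1)
      have hf00 : f0.eval 0 = 0 := by rw [hg0]; simp
      rw [hzero, map_zero, eval_mul, eval_mul, hf00, zero_mul, map_zero, map_zero, zero_mul,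
        zero_add, map_mul, hf0, one_mul] at h
      exact h.symm
    have h1 : res M ((u * f0).eval 1) + res M (v.eval 1) * res M (f1.eval 1) = 1 := by
      rw [← map_mul, ← map_add, ← eval_mul, ← eval_add, huv, eval_one, map_one]
    rw [hE, hev, h0, map_zero, map_zero, zero_mul, zero_add,
      eq_sub_of_add_eq h1, map_sub, map_one, sub_mul, one_mul, map_mul, mul_assoc, hf1, mul_zero,
      sub_zero]

section Lift

variable {G : Type*} [Group G] [Finite G]

/-- The reduction of the group algebra. -/
noncomputable abbrev redG (M : Ideal Cfsg.AlgInt) [M.IsMaximal] (G : Type*) [Group G] :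
    MonoidAlgebra (localRing M) G →+* MonoidAlgebra (ResField M) G :=
  MonoidAlgebra.mapRingHom G (res M)

theorem algebraMap_redG (c : localRing M) :
    redG M G (algebraMap (localRing M) _ c) = algebraMap (ResField M) _ (res M c) := by
  simp [redG, MonoidAlgebra.coe_algebraMap]

/-- An invariant element of the reduction has an invariant lift. -/
theorem exists_invariant_lift {Q : Subgroup G} {a : MonoidAlgebra (ResField M) G}
    (ha : a ∈ invAlg (ResField M) Q) :
    ∃ A ∈ invAlg (localRing M) Q, redG M G A = a := by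
  choose s hs using Cfsg.Agent.H41.res_surjective (M := M)
  refine ⟨ofFun fun x => s (a.coeff x), mem_invAlg.2 fun q hq x => ?_, ext_coeff fun x => ?_⟩
  · simp only [coeff_ofFun, mem_invAlg.1 ha q hq x]
  · simp [redG, hs]

theorem isIntegral_invAlg {Q : Subgroup G} (a : invAlg (localRing M) Q) :
    IsIntegral (localRing M) a := by
  have : Module.Finite (localRing M) (MonoidAlgebra (localRing M) G) :=
    Module.Finite.equiv (MonoidAlgebra.coeffLinearEquiv (localRing M)).symm
  exact (isIntegral_algHom_iff (invAlg (localRing M) Q).val Subtype.val_injective).1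
    (IsIntegral.of_finite _ _)

/-- An invariant idempotent of the reduction has an invariant idempotent lift. -/
theorem exists_idem_lift {Q : Subgroup G} {e : MonoidAlgebra (ResField M) G}
    (he : e ∈ invAlg (ResField M) Q) (hee : e * e = e) :
    ∃ E ∈ invAlg (localRing M) Q, E * E = E ∧ redG M G E = e := by
  obtain ⟨A, hA, hAe⟩ := exists_invariant_lift he
  obtain ⟨w, -, h1, h2⟩ := exists_idem_of_map
    ((redG M G).comp (invAlg (localRing M) Q).val.toRingHom)
    (fun c => algebraMap_redG c) (isIntegral_invAlg ⟨A, hA⟩)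
    (show redG M G A * redG M G A = redG M G A by rw [hAe, hee])
  exact ⟨_, ((⟨A, hA⟩ : invAlg (localRing M) Q) * w).2, congrArg Subtype.val h1,
    (h2.trans hAe : _)⟩

end Lift

section Trace

variable {G : Type*} [Group G] [Fintype G]

/-- A class function with values in the local ring. -/
structure IsLocTrace (M : Ideal Cfsg.AlgInt) [M.IsMaximal] (χ : G → ℂ) : Prop where
  comm : ∀ x y, χ (x * y) = χ (y * x)
  mem : ∀ g, χ g ∈ localRing M

theorem isLocTrace_irr (χ : Cfsg.IrrCharacter G) : IsLocTrace M (χ : G → ℂ) :=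
  ⟨fun a b => Cfsg.Agent.H26.irr_eq_of_isConj χ (isConj_iff.2 ⟨a⁻¹, by group⟩),
    fun g => irr_mem_localRing χ g⟩

/-- The trace of `a * u`. -/
noncomputable def trAt (u : G) (χ : G → ℂ) (a : MonoidAlgebra (localRing M) G) : ℂ :=
  ∑ g : G, (a.coeff g : ℂ) * χ (g * u)

@[simp] theorem trAt_zero (u : G) (χ : G → ℂ) : trAt (M := M) u χ 0 = 0 := by simp [trAt]

theorem trAt_add (u : G) (χ : G → ℂ) (a b : MonoidAlgebra (localRing M) G) :
    trAt u χ (a + b) = trAt u χ a + trAt u χ b := by
  simp [trAt, add_mul, Finset.sum_add_distrib]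

theorem trAt_mul_comm {u : G} {χ : G → ℂ} (hχ : ∀ x y, χ (x * y) = χ (y * x))
    {a : MonoidAlgebra (localRing M) G} (ha : a ∈ invAlg (localRing M) (Subgroup.zpowers u))
    (b : MonoidAlgebra (localRing M) G) : trAt u χ (a * b) = trAt u χ (b * a) := by
  have key : ∀ c d : MonoidAlgebra (localRing M) G,
      trAt u χ (c * d) = ∑ x : G, ∑ y : G, (c.coeff x : ℂ) * (d.coeff y : ℂ) * χ (x * y * u) := by
    intro c d
    simp only [trAt, coeff_mul_eq_sum, AddSubmonoidClass.coe_finsetSum, MulMemClass.coe_mul,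
      Finset.sum_mul]
    rw [Finset.sum_comm]
    refine Finset.sum_congr rfl fun x _ => ?_
    refine Fintype.sum_equiv (Equiv.mulLeft x⁻¹) _ _ fun g => ?_
    simp
  have hu : ∀ x, a.coeff (u * x * u⁻¹) = a.coeff x :=
    mem_invAlg.1 ha u (Subgroup.mem_zpowers u)
  rw [key, key, Finset.sum_comm]
  refine Finset.sum_congr rfl fun y _ => ?_
  refine (Fintype.sum_equiv (MulAut.conj u).toEquiv
    (fun x => (a.coeff x : ℂ) * (b.coeff y : ℂ) * χ (x * y * u))
    (fun x => (b.coeff y : ℂ) * (a.coeff x : ℂ) * χ (y * x * u)) fun x => ?_)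
  show _ = (b.coeff y : ℂ) * (a.coeff (u * x * u⁻¹) : ℂ) * χ (y * (u * x * u⁻¹) * u)
  rw [hu, hχ (x * y) u, show y * (u * x * u⁻¹) * u = y * (u * x) by group, hχ y (u * x),
    ← mul_assoc u x y, mul_comm ((a.coeff x : localRing M) : ℂ)]

variable (hM : Cfsg.IsPModular p M) {u : G} (hu : ∃ j : ℕ, orderOf u = p ^ j)

/-- The reduction followed by the Brauer map at `u`. -/
noncomputable def brAt (u : G) (a : MonoidAlgebra (localRing M) G) :
    MonoidAlgebra (ResField M) G :=
  cut (Subgroup.centralizer ((Subgroup.zpowers u : Subgroup G) : Set G)) (redG M G a)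

include hM hu

theorem isPGroup_zpowers : IsPGroup p (Subgroup.zpowers u) :=
  let ⟨j, hj⟩ := hu
  IsPGroup.of_card (n := j) (by rw [Nat.card_zpowers, hj])

omit hM hu in
theorem redG_mem_invAlg {Q : Subgroup G} {a : MonoidAlgebra (localRing M) G}
    (ha : a ∈ invAlg (localRing M) Q) : redG M G a ∈ invAlg (ResField M) Q :=
  mem_invAlg.2 fun q hq x => by simp [redG, mem_invAlg.1 ha q hq x]

theorem brAt_mul {a b : MonoidAlgebra (localRing M) G}
    (ha : a ∈ invAlg (localRing M) (Subgroup.zpowers u))
    (hb : b ∈ invAlg (localRing M) (Subgroup.zpowers u)) :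
    brAt u (a * b) = brAt u a * brAt u b := by
  have := Cfsg.Agent.H41.IsPModular.charP hM
  rw [brAt, map_mul]
  exact Cfsg.Agent.H22.cut_mul (isPGroup_zpowers hM hu)
    (inv_iff_mem_invAlg.2 (redG_mem_invAlg ha)) (inv_iff_mem_invAlg.2 (redG_mem_invAlg hb))

/-- The Brauer map at `u` as a ring homomorphism. -/
noncomputable def brHom : invAlg (localRing M) (Subgroup.zpowers u) →+* MonoidAlgebra (ResField M) G where
  toFun a := brAt u (a : MonoidAlgebra (localRing M) G)
  map_one' := by simp [brAt, redG, Cfsg.Agent.H22.cut_one]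
  map_mul' a b := brAt_mul hM hu a.2 b.2
  map_zero' := by simp [brAt]
  map_add' a b := by simp [brAt]

/-- An idempotent with vanishing Brauer image has trace zero at `u`. -/
theorem trAt_eq_zero {χ : G → ℂ} (hχ : IsLocTrace M χ) {E : MonoidAlgebra (localRing M) G}
    (hE : E ∈ invAlg (localRing M) (Subgroup.zpowers u)) (hEE : E * E = E)
    (h0 : brAt u E = 0) : trAt u χ E = 0 := by
  obtain ⟨j, hj⟩ := hu
  have h := trace_idem_eq_zero_of_commute (p := p) (res M) Cfsg.Agent.H41.res_surjective
    (fun x hx => exists_dvd_pow_of_res_eq_zero hM x hx) (eq_zero_of_forall_pow_dvd hM)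
    natCast_mul_cancel hEE (H := Subgroup.zpowers u) (fun g hg x => mem_invAlg.1 hE g hg x)
    (v := redG M G E) (fun g hg x => mem_invAlg.1 (redG_mem_invAlg hE) g hg x)
    (by rw [← map_mul, hEE]) (Subgroup.mem_zpowers u)
    ⟨1, mul_one u, Commute.one_right u, by simpa using (Fact.out : p.Prime).not_dvd_one⟩
    (fun x hx => ?_) hj ⟨1, pow_one u⟩ (fun g => (⟨χ g, hχ.mem g⟩ : localRing M))
    (fun a b => Subtype.ext (hχ.comm a b))
  · have := congrArg (Subtype.val : localRing M → ℂ) h
    simp only [AddSubmonoidClass.coe_finsetSum, MulMemClass.coe_mul, ZeroMemClass.coe_zero] at this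
    exact this
  · have hx' : x ∈ Subgroup.centralizer ((Subgroup.zpowers u : Subgroup G) : Set G) := by
      rw [Subgroup.zpowers_eq_closure, Subgroup.centralizer_closure,
        Subgroup.mem_centralizer_singleton_iff]
      exact hx.eq
    rw [← Cfsg.Agent.H22.coeff_cut_of_mem (redG M G E) hx', show cut _ (redG M G E) = 0 from h0]
    simp

/-- The spectral step: from `a`, `b` whose product reduces to an idempotent below `E`. -/
theorem exists_spectral {χ : G → ℂ} (hχ : IsLocTrace M χ) {a b E : MonoidAlgebra (localRing M) G}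
    (ha : a ∈ invAlg (localRing M) (Subgroup.zpowers u))
    (hb : b ∈ invAlg (localRing M) (Subgroup.zpowers u))
    (hE : E ∈ invAlg (localRing M) (Subgroup.zpowers u)) (hEE : E * E = E)
    (hEa : E * a = a) (hbE : b * E = b)
    (hab : brAt u a * brAt u b = brAt u E) :
    ∃ f ∈ invAlg (localRing M) (Subgroup.zpowers u), f * f = f ∧
      brAt u f = brAt u b * brAt u E * brAt u a ∧
      trAt u χ f = trAt u χ E ∧
      ∀ E' : MonoidAlgebra (localRing M) G, E' * b = b → a * E' = a → E' * f = f ∧ f * E' = f := by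
  let S := invAlg (localRing M) (Subgroup.zpowers u)
  let φ := brHom (M := M) hM hu
  let a' : S := ⟨a, ha⟩
  let b' : S := ⟨b, hb⟩
  let E₀ : S := ⟨E, hE⟩
  let c : S := a' * b'
  have hφc : φ c = φ E₀ := by
    rw [map_mul]; exact hab
  have hE₀ : E₀ * E₀ = E₀ := Subtype.ext hEE
  have hca : E₀ * c = c := by
    show E₀ * (a' * b') = a' * b'
    rw [← mul_assoc, show E₀ * a' = a' from Subtype.ext hEa]
  have hcb : c * E₀ = c := by
    show a' * b' * E₀ = a' * b'
    rw [mul_assoc, show b' * E₀ = b' from Subtype.ext hbE]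
  obtain ⟨w, hcw, hidem, hφw⟩ := exists_idem_of_map φ (fun r => by
      show cut _ (redG M G (algebraMap (localRing M) (MonoidAlgebra (localRing M) G) r)) = _
      rw [algebraMap_redG, Algebra.algebraMap_eq_smul_one, map_smul, Cfsg.Agent.H22.cut_one])
    (isIntegral_invAlg c) (by rw [hφc, ← map_mul, hE₀])
  set EC : S := c * w with hEC
  have hE1 : E₀ * EC = EC := by rw [hEC, ← mul_assoc, hca]
  have hE2 : EC * E₀ = EC := by rw [hEC, hcw.eq, mul_assoc, hcb]
  let α : S := EC * a'
  let β : S := b' * w * EC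
  have hαβ : α * β = EC := by
    show EC * a' * (b' * w * EC) = EC
    calc EC * a' * (b' * w * EC) = EC * (a' * b' * w) * EC := by simp only [mul_assoc]
      _ = EC := by rw [show a' * b' * w = EC from rfl, hidem, hidem]
  have hECα : EC * α = α := by
    show EC * (EC * a') = EC * a'
    rw [← mul_assoc, hidem]
  refine ⟨((β * α : S) : MonoidAlgebra (localRing M) G), (β * α : S).2, ?_, ?_, ?_, fun E' h1 h2 => ?_⟩
  · refine congrArg Subtype.val (show β * α * (β * α) = β * α from ?_)
    rw [mul_assoc, ← mul_assoc α, hαβ, hECα]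
  · show φ (β * α) = φ b' * φ E₀ * φ a'
    simp only [α, β, map_mul]
    rw [show φ EC = φ E₀ by rw [hEC, hφw, hφc]]
    have h3 : φ E₀ * φ w = φ E₀ := by rw [← hφc, ← map_mul, hφw]
    have h4 : φ w * φ E₀ = φ E₀ := by
      rw [← hφc, ← map_mul, ← hcw.eq, hφw]
    have h5 : φ E₀ * φ E₀ = φ E₀ := by rw [← map_mul, hE₀]
    calc φ b' * φ w * φ E₀ * (φ E₀ * φ a') = φ b' * ((φ w * φ E₀) * φ E₀) * φ a' := by
          simp only [mul_assoc]
      _ = φ b' * φ E₀ * φ a' := by rw [h4, h5]
  · have h1 : trAt u χ ((β * α : S) : MonoidAlgebra (localRing M) G) =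
        trAt u χ (EC : MonoidAlgebra (localRing M) G) := by
      rw [MulMemClass.coe_mul, trAt_mul_comm hχ.comm β.2, ← MulMemClass.coe_mul, hαβ]
    rw [h1]
    have hdiff : trAt u χ (E - (EC : MonoidAlgebra (localRing M) G)) = 0 := by
      refine trAt_eq_zero hM hu hχ (sub_mem hE EC.2) ?_ ?_
      · have : (E₀ - EC) * (E₀ - EC) = E₀ - EC := by
          rw [mul_sub, sub_mul, sub_mul, hE₀, hE1, hE2, hidem]; abel
        exact congrArg Subtype.val this
      · show φ (E₀ - EC) = 0
        rw [map_sub, hEC, hφw, hφc, sub_self]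
    have := trAt_add u χ (EC : MonoidAlgebra (localRing M) G) (E - EC)
    rw [add_sub_cancel, hdiff, add_zero] at this
    exact this.symm
  · have hco : ((β * α : S) : MonoidAlgebra (localRing M) G) =
        b * (w : MonoidAlgebra (localRing M) G) * (EC : MonoidAlgebra (localRing M) G) *
          ((EC : MonoidAlgebra (localRing M) G) * a) := rfl
    constructor
    · rw [hco, ← mul_assoc E', ← mul_assoc E', ← mul_assoc E', h1]
    · rw [hco, mul_assoc _ _ E', mul_assoc _ a E', h2]

/-- The trace at `u` of an idempotent only depends on its Brauer image. -/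
theorem trAt_eq_of_brAt_eq {χ : G → ℂ} (hχ : IsLocTrace M χ)
    {E₁ E₂ : MonoidAlgebra (localRing M) G}
    (h₁ : E₁ ∈ invAlg (localRing M) (Subgroup.zpowers u)) (h₁' : E₁ * E₁ = E₁)
    (h₂ : E₂ ∈ invAlg (localRing M) (Subgroup.zpowers u)) (h₂' : E₂ * E₂ = E₂)
    (h : brAt u E₁ = brAt u E₂) : trAt u χ E₁ = trAt u χ E₂ := by
  have he : brAt u E₁ * brAt u E₁ = brAt u E₁ := by rw [← brAt_mul hM hu h₁ h₁, h₁']
  obtain ⟨f, hf, hff, hbrf, htr, hend⟩ := exists_spectral hM hu hχ (mul_mem h₁ h₂) (mul_mem h₂ h₁)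
    h₁ h₁' (by rw [← mul_assoc, h₁']) (by rw [mul_assoc, h₁'])
    (by rw [brAt_mul hM hu h₁ h₂, brAt_mul hM hu h₂ h₁, ← h, he, he])
  obtain ⟨e1, e2⟩ := hend E₂ (by rw [← mul_assoc, h₂']) (by rw [mul_assoc, h₂'])
  have hdiff : trAt u χ (E₂ - f) = 0 := by
    refine trAt_eq_zero hM hu hχ (sub_mem h₂ hf) ?_ ?_
    · rw [mul_sub, sub_mul, sub_mul, h₂', e1, e2, hff]; abel
    · rw [brAt_mul hM hu h₁ h₂, brAt_mul hM hu h₂ h₁, ← h, he, he, he] at hbrf
      show cut _ (redG M G (E₂ - f)) = 0
      rw [map_sub, map_sub]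
      show brAt u E₂ - brAt u f = 0
      rw [hbrf, ← h, sub_self]
  rw [← htr]
  have := trAt_add u χ f (E₂ - f)
  rw [add_sub_cancel, hdiff, add_zero] at this
  exact this.symm

end Trace

section TraceBar

variable {G : Type*} [Group G] [Fintype G]

open scoped Classical in
/-- The trace at `u` of an idempotent of the reduction centralised by `u`. -/
noncomputable def trBar (u : G) (χ : G → ℂ) (e : MonoidAlgebra (ResField M) G) : ℂ :=
  if h : ∃ E : MonoidAlgebra (localRing M) G,
      E ∈ invAlg (localRing M) (Subgroup.zpowers u) ∧ E * E = E ∧ brAt u E = e then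
    trAt u χ h.choose else 0

variable (hM : Cfsg.IsPModular p M) {u : G} (hu : ∃ j : ℕ, orderOf u = p ^ j)
  {χ : G → ℂ} (hχ : IsLocTrace M χ)

include hM hu hχ

/-- The trace of the reduction is computed by every lift. -/
theorem trBar_eq {E : MonoidAlgebra (localRing M) G}
    (hE : E ∈ invAlg (localRing M) (Subgroup.zpowers u)) (hEE : E * E = E) :
    trBar (M := M) u χ (brAt u E) = trAt u χ E := by
  have h : ∃ E' : MonoidAlgebra (localRing M) G, E' ∈ invAlg (localRing M) (Subgroup.zpowers u) ∧
      E' * E' = E' ∧ brAt u E' = brAt u E := ⟨E, hE, hEE, rfl⟩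
  rw [trBar, dif_pos h]
  exact trAt_eq_of_brAt_eq hM hu hχ h.choose_spec.1 h.choose_spec.2.1 hE hEE h.choose_spec.2.2

omit hM hu hχ in
theorem exists_lift_supp {e : MonoidAlgebra (ResField M) G}
    (hs : Supp (Subgroup.centralizer ((Subgroup.zpowers u : Subgroup G) : Set G)) e)
    (hee : e * e = e) : ∃ E : MonoidAlgebra (localRing M) G,
      E ∈ invAlg (localRing M) (Subgroup.zpowers u) ∧ E * E = E ∧ brAt u E = e := by
  obtain ⟨E, hE, hEE, h⟩ := exists_idem_lift (supp_centralizer_mem_invAlg hs) hee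
  exact ⟨E, hE, hEE, by rw [brAt, h, Cfsg.Agent.H22.cut_of_supp hs]⟩

theorem trBar_zero : trBar (M := M) u χ 0 = 0 := by
  have h := trBar_eq hM hu hχ (E := 0) (zero_mem _) (mul_zero _)
  rwa [show brAt (M := M) u 0 = 0 by simp [brAt], trAt_zero] at h

/-- The trace is invariant under equivalence of idempotents. -/
theorem trBar_equiv {α β : MonoidAlgebra (ResField M) G}
    (hα : Supp (Subgroup.centralizer ((Subgroup.zpowers u : Subgroup G) : Set G)) α)
    (hβ : Supp (Subgroup.centralizer ((Subgroup.zpowers u : Subgroup G) : Set G)) β)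
    (hab : α * β * (α * β) = α * β) (hba : β * α * (β * α) = β * α) :
    trBar (M := M) u χ (α * β) = trBar (M := M) u χ (β * α) := by
  obtain ⟨A, hA, hAα⟩ := exists_invariant_lift (supp_centralizer_mem_invAlg hα)
  obtain ⟨B, hB, hBβ⟩ := exists_invariant_lift (supp_centralizer_mem_invAlg hβ)
  obtain ⟨E, hE, hEE, hEe⟩ := exists_lift_supp (hα.mul hβ) hab
  have hA' : brAt u A = α := by rw [brAt, hAα, Cfsg.Agent.H22.cut_of_supp hα]
  have hB' : brAt u B = β := by rw [brAt, hBβ, Cfsg.Agent.H22.cut_of_supp hβ]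
  obtain ⟨f, hf, hff, hbrf, htr, -⟩ := exists_spectral hM hu hχ (mul_mem hE hA) (mul_mem hB hE) hE
    hEE (by rw [← mul_assoc, hEE]) (by rw [mul_assoc, hEE])
    (by rw [brAt_mul hM hu hE hA, brAt_mul hM hu hB hE, hA', hB', hEe,
      show α * β * α * (β * (α * β)) = (α * β) * (α * β) * (α * β) by simp only [mul_assoc],
      hab, hab])
  have he : brAt u f = β * α := by
    rw [hbrf, brAt_mul hM hu hE hA, brAt_mul hM hu hB hE, hA', hB', hEe]
    calc β * (α * β) * (α * β) * (α * β * α) =
          (β * α) * (β * α) * ((β * α) * (β * α)) := by simp only [mul_assoc]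
      _ = β * α := by rw [hba, hba]
  rw [← hEe, trBar_eq hM hu hχ hE hEE, ← he, trBar_eq hM hu hχ hf hff, htr]

/-- The trace is additive on orthogonal idempotents. -/
theorem trBar_add {e f : MonoidAlgebra (ResField M) G}
    (he : Supp (Subgroup.centralizer ((Subgroup.zpowers u : Subgroup G) : Set G)) e)
    (hf : Supp (Subgroup.centralizer ((Subgroup.zpowers u : Subgroup G) : Set G)) f)
    (hee : e * e = e) (hff : f * f = f) (hef : e * f = 0) (hfe : f * e = 0) :
    trBar (M := M) u χ (e + f) = trBar (M := M) u χ e + trBar (M := M) u χ f := by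
  let S := invAlg (localRing M) (Subgroup.zpowers u)
  let φ := brHom (M := M) hM hu
  obtain ⟨E, hE, hEE, hEe⟩ := exists_lift_supp he hee
  obtain ⟨F, hF, -, hFf⟩ := exists_lift_supp hf hff
  let E' : S := ⟨E, hE⟩
  have hE' : E' * E' = E' := Subtype.ext hEE
  let a : S := (1 - E') * ⟨F, hF⟩ * (1 - E')
  have hEe' : φ E' = e := hEe
  have hφa : φ a = f := by
    simp only [a, map_mul, map_sub, map_one, hEe', show φ ⟨F, hF⟩ = f from hFf]
    rw [sub_mul, one_mul, hef, sub_zero, mul_sub, mul_one, hfe, sub_zero]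
  have hl : E' * a = 0 := by
    simp only [a, ← mul_assoc, mul_sub, mul_one, hE', sub_self, zero_mul]
  have hr : a * E' = 0 := by
    simp only [a, mul_assoc, sub_mul, one_mul, hE', sub_self, mul_zero]
  obtain ⟨w, hw, hidem, hφw⟩ := exists_idem_of_map φ (fun r => by
      show cut _ (redG M G (algebraMap (localRing M) (MonoidAlgebra (localRing M) G) r)) = _
      rw [algebraMap_redG, Algebra.algebraMap_eq_smul_one, map_smul, Cfsg.Agent.H22.cut_one])
    (isIntegral_invAlg a) (by rw [hφa, hff])
  have h1 : E' * (a * w) = 0 := by rw [← mul_assoc, hl, zero_mul]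
  have h2 : a * w * E' = 0 := by rw [hw.eq, mul_assoc, hr, mul_zero]
  have hsum : (E' + a * w) * (E' + a * w) = E' + a * w := by
    rw [add_mul, mul_add, mul_add, hE', hidem, h1, h2, add_zero, zero_add]
  have hbr : brAt u ((E' + a * w : S) : MonoidAlgebra (localRing M) G) = e + f := by
    show φ (E' + a * w) = e + f
    rw [map_add, hφw, hφa, hEe']
  have hbr2 : brAt u ((a * w : S) : MonoidAlgebra (localRing M) G) = f := hφw.trans hφa
  rw [← hbr, trBar_eq hM hu hχ (E' + a * w : S).2 (congrArg Subtype.val hsum), ← hbr2,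
    trBar_eq hM hu hχ (a * w : S).2 (congrArg Subtype.val hidem), ← hEe,
    trBar_eq hM hu hχ hE hEE, AddMemClass.coe_add, trAt_add]

end TraceBar

end Cfsg.Agent.H40
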