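import Cfsg.Agent.H40.BlockBasic
import Cfsg.Agent.H40.BlockSets
import Cfsg.Agent.H40.SecondMain
import Cfsg.Agent.H40.InducedBlocks
import Cfsg.Agent.H40.BrauerMap
import Cfsg.Agent.H44.Inflation

/-!
# Blocks of quotient groups and their defect groups
-/

set_option autoImplicit false
set_option linter.unusedSectionVars false

namespace Cfsg.Agent.H40

open Cfsg.Agent.H23 (IsSylowIn rconj mem_rconj rconj_mono)
open Cfsg.Agent.H41 (ResField omegaBar idemBar localRing res redZ incl)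
open Cfsg.Agent.H44 (inflate)
open scoped ComplexConjugate

variable {G : Type*} [Group G] [Finite G] {p : ℕ} [Fact p.Prime] {M : Ideal Cfsg.AlgInt}
  [M.IsMaximal] (N : Subgroup G) [N.Normal]

/-- The characters of the quotient whose inflation lies in a given set. -/
def quotSet (B : Set (Cfsg.IrrCharacter G)) : Set (Cfsg.IrrCharacter (G ⧸ N)) :=
  {φ | inflate N φ ∈ B}

/-- The preimage of the centraliser of an image contains the centraliser. -/
theorem centralizer_le_comap (g : G) :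
    Subgroup.centralizer ({g} : Set G) ≤
      (Subgroup.centralizer ({(g : G ⧸ N)} : Set (G ⧸ N))).comap (QuotientGroup.mk' N) := by
  intro x hx
  rw [Subgroup.mem_centralizer_singleton_iff] at hx
  rw [Subgroup.mem_comap, QuotientGroup.mk'_apply, Subgroup.mem_centralizer_singleton_iff,
    ← QuotientGroup.mk_mul, ← QuotientGroup.mk_mul, hx]

/-- The central character of an inflation. -/
theorem centralChar_inflate (φ : Cfsg.IrrCharacter (G ⧸ N)) (g : G) :
    Cfsg.centralChar (inflate N φ : G → ℂ) g =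
      ((Subgroup.centralizer ({g} : Set G)).relIndex
        ((Subgroup.centralizer ({(g : G ⧸ N)} : Set (G ⧸ N))).comap (QuotientGroup.mk' N)) : ℂ) *
      Cfsg.centralChar (φ : G ⧸ N → ℂ) (g : G ⧸ N) := by
  unfold Cfsg.centralChar
  rw [← Subgroup.relIndex_mul_index (centralizer_le_comap N g),
    Subgroup.index_comap_of_surjective _ (QuotientGroup.mk'_surjective N), Nat.cast_mul]
  show _ * φ.1 ((g : G) : G ⧸ N) / φ.1 ((1 : G) : G ⧸ N) = _
  rw [QuotientGroup.mk_one]
  ring

/-- Inflation preserves blocks. -/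
theorem sameBlock_inflate {φ ψ : Cfsg.IrrCharacter (G ⧸ N)}
    (h : Cfsg.SameBlock M (φ : G ⧸ N → ℂ) (ψ : G ⧸ N → ℂ)) :
    Cfsg.SameBlock M (inflate N φ : G → ℂ) (inflate N ψ : G → ℂ) := fun g => by
  rw [centralChar_inflate, centralChar_inflate, ← mul_sub]
  obtain ⟨a, b, ha, hb, hab⟩ := h (g : G ⧸ N)
  refine ⟨((Subgroup.centralizer ({g} : Set G)).relIndex
        ((Subgroup.centralizer ({(g : G ⧸ N)} : Set (G ⧸ N))).comap (QuotientGroup.mk' N)) :
      Cfsg.AlgInt) * a, b, M.mul_mem_left _ ha, hb, ?_⟩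
  rw [← hab, mul_div_assoc']
  congr 1

theorem blockClosed_quotSet {B : Set (Cfsg.IrrCharacter G)} (hB : Cfsg.IsPBlock M B) :
    BlockClosed M (quotSet N B) := fun _ _ h hφ =>
  blockClosed_of_isPBlock hB _ _ (sameBlock_inflate N h) hφ

open scoped Classical in
/-- The idempotent of the characters inflating into `B` is the image of the idempotent of `B`. -/
theorem blockCoeff_quotSet [Fintype G] (B : Set (Cfsg.IrrCharacter G)) (q : G ⧸ N) :
    Cfsg.blockCoeff (quotSet N B) q =
      ∑ g ∈ Finset.univ.filter (fun g : G => (g : G ⧸ N) = q), Cfsg.blockCoeff B g := by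
  have : Fintype (G ⧸ N) := Fintype.ofFinite _
  let F : G ⧸ N → ℂ := fun q =>
    ∑ g ∈ Finset.univ.filter (fun g : G => (g : G ⧸ N) = q), Cfsg.blockCoeff B g
  have hF : ∀ q r : G ⧸ N, F (r * q * r⁻¹) = F q := by
    intro q r
    obtain ⟨c, rfl⟩ := QuotientGroup.mk_surjective r
    refine Finset.sum_nbij' (fun g => c⁻¹ * g * c) (fun g => c * g * c⁻¹) ?_ ?_ ?_ ?_ ?_
    · intro g hg
      simp only [Finset.mem_filter, Finset.mem_univ, true_and] at hg ⊢
      rw [QuotientGroup.mk_mul, QuotientGroup.mk_mul, hg, QuotientGroup.mk_inv]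
      group
    · intro g hg
      simp only [Finset.mem_filter, Finset.mem_univ, true_and] at hg ⊢
      rw [QuotientGroup.mk_mul, QuotientGroup.mk_mul, hg, QuotientGroup.mk_inv]
    · intro g _; group
    · intro g _; group
    · intro g _
      have := Cfsg.Agent.H41.blockCoeff_conj_inv B g c⁻¹
      rw [inv_inv] at this
      exact this.symm
  have key : Cfsg.Agent.H41.centerOfFun F hF = Cfsg.Agent.H41.blockIdem (quotSet N B) := by
    refine Cfsg.Agent.H41.center_ext_omega fun φ => ?_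
    rw [Cfsg.Agent.H41.omega_blockIdem,
      show (if φ ∈ quotSet N B then (1 : ℂ) else 0) =
        Cfsg.Agent.H41.omega (inflate N φ) (Cfsg.Agent.H41.blockIdem B) from
          (Cfsg.Agent.H41.omega_blockIdem B (inflate N φ)).symm,
      Cfsg.Agent.H41.omega_apply, Cfsg.Agent.H41.omega_apply]
    simp only [Cfsg.Agent.H41.coeff_centerOfFun, Cfsg.Agent.H41.coeff_blockIdem,
      Cfsg.Agent.H44.inflate_apply, QuotientGroup.mk_one]
    congr 1
    rw [← Finset.sum_fiberwise_of_maps_to (t := (Finset.univ : Finset (G ⧸ N)))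
      (g := fun g : G => (g : G ⧸ N)) (fun g _ => Finset.mem_univ _)]
    refine Finset.sum_congr rfl fun q _ => ?_
    rw [Finset.sum_mul]
    exact Finset.sum_congr rfl fun g hg => by rw [(Finset.mem_filter.1 hg).2]
  have h := congrArg (fun z : Cfsg.Agent.H41.groupAlgCenter ℂ (G ⧸ N) =>
    (z : MonoidAlgebra ℂ (G ⧸ N)).coeff q) key
  simp only [Cfsg.Agent.H41.coeff_centerOfFun, Cfsg.Agent.H41.coeff_blockIdem] at h
  exact h.symm

/-- The residue of an idempotent coefficient of a union of blocks. -/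
noncomputable def setCoeffBar {S : Set (Cfsg.IrrCharacter G)} (hS : BlockClosed M S) (g : G) :
    ResField M :=
  res M ⟨Cfsg.blockCoeff S g, hS.blockCoeff_mem g⟩

theorem coeff_redZ_setLocIdem {S : Set (Cfsg.IrrCharacter G)} (hS : BlockClosed M S) (g : G) :
    ((redZ M (setLocIdem hS) : Cfsg.Agent.H41.groupAlgCenter (ResField M) G) :
      MonoidAlgebra (ResField M) G).coeff g = setCoeffBar hS g := by
  rw [Cfsg.Agent.H41.coeff_redZ, setCoeffBar]
  congr 1
  exact Subtype.ext (coe_coeff_setLocIdem hS g)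

theorem setCoeffBar_conj {S : Set (Cfsg.IrrCharacter G)} (hS : BlockClosed M S) (g h : G) :
    setCoeffBar hS (h * g * h⁻¹) = setCoeffBar hS g := by
  unfold setCoeffBar
  congr 1
  exact Subtype.ext (Cfsg.Agent.H41.blockCoeff_conj_inv S g h)

theorem coeffUnit_of_setCoeffBar {B : Set (Cfsg.IrrCharacter G)} (hB : Cfsg.IsPBlock M B) {g : G}
    (h : setCoeffBar (blockClosed_of_isPBlock hB) g ≠ 0) : CoeffUnit M B g := by
  refine ⟨Cfsg.Agent.H41.blockCoeff_mem hB g, fun hc => h ?_⟩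
  obtain ⟨_, h0⟩ := Cfsg.Agent.H41.memLocalIdeal_iff_res.1 hc
  exact h0

open scoped Classical in
/-- The idempotent of a union of blocks is the sum over its blocks, coefficient by coefficient. -/
theorem exists_block_coeffUnit_of_setCoeffBar {S : Set (Cfsg.IrrCharacter G)}
    (hS : BlockClosed M S) {g : G} (h : setCoeffBar hS g ≠ 0) :
    ∃ b : Set (Cfsg.IrrCharacter G), Cfsg.IsPBlock M b ∧ b ⊆ S ∧ CoeffUnit M b g := by
  have := Cfsg.Agent.H41.finite_irrCharacter (G := G)
  have := Fintype.ofFinite (Cfsg.IrrCharacter G)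
  let blocks : Finset (Set (Cfsg.IrrCharacter G)) :=
    (Finset.univ.filter (· ∈ S)).image fun χ : Cfsg.IrrCharacter G => Cfsg.blockOf M (χ : G → ℂ)
  have hb : ∀ b ∈ blocks, Cfsg.IsPBlock M b ∧ b ⊆ S := by
    intro b hb
    obtain ⟨χ, hχ, rfl⟩ := Finset.mem_image.1 hb
    exact ⟨⟨χ, rfl⟩, fun ψ hψ => hS χ ψ hψ
      (Finset.mem_filter.1 hχ).2⟩
  by_contra hne
  have h0 : ∀ b ∈ blocks, ∃ e : localRing M, (e : ℂ) = Cfsg.blockCoeff b g ∧ res M e = 0 := by
    intro b hbm
    refine ⟨⟨_, Cfsg.Agent.H41.blockCoeff_mem (hb b hbm).1 g⟩, rfl, ?_⟩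
    by_contra hr
    exact hne ⟨b, (hb b hbm).1, (hb b hbm).2, coeffUnit_of_setCoeffBar (hb b hbm).1 hr⟩
  choose! e he he' using h0
  refine h ?_
  have hsum : (⟨Cfsg.blockCoeff S g, hS.blockCoeff_mem g⟩ : localRing M) = ∑ b ∈ blocks, e b := by
    refine Subtype.ext ?_
    rw [AddSubmonoidClass.coe_finsetSum, Finset.sum_congr rfl fun b hbm => he b hbm]
    show Cfsg.blockCoeff S g = _
    rw [Cfsg.Agent.H41.blockCoeff_eq_sum,
      ← Finset.sum_fiberwise_of_maps_to (t := blocks)
        (g := fun χ : Cfsg.IrrCharacter G => Cfsg.blockOf M (χ : G → ℂ))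
        (fun χ hχ => Finset.mem_image_of_mem _ hχ), Finset.mul_sum]
    refine Finset.sum_congr rfl fun b hbm => ?_
    rw [Cfsg.Agent.H41.blockCoeff_eq_sum]
    congr 1
    refine Finset.sum_congr (Finset.ext fun χ => ?_) fun _ _ => rfl
    simp only [Finset.mem_filter, Finset.mem_univ, true_and]
    exact ⟨fun hχ => hχ.2 ▸ Cfsg.Agent.H41.mem_blockOf_self χ,
      fun hχ => ⟨(hb b hbm).2 hχ, (Cfsg.Agent.H41.eq_blockOf_of_mem (hb b hbm).1 hχ).symm⟩⟩
  rw [setCoeffBar, hsum, map_sum]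
  exact Finset.sum_eq_zero he'

/-- The image of a Sylow subgroup of a preimage. -/
theorem exists_isPGroup_map_eq {D : Subgroup (G ⧸ N)} (hD : IsPGroup p D) :
    ∃ S : Subgroup G, IsPGroup p S ∧ S.map (QuotientGroup.mk' N) = D := by
  let f : ↥(D.comap (QuotientGroup.mk' N)) →* D :=
    (QuotientGroup.mk' N).subgroupComap D
  have hf : Function.Surjective f := by
    rintro ⟨q, hq⟩
    obtain ⟨g, rfl⟩ := QuotientGroup.mk'_surjective N q
    exact ⟨⟨g, hq⟩, rfl⟩
  obtain ⟨P⟩ : Nonempty (Sylow p ↥(D.comap (QuotientGroup.mk' N))) := inferInstance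
  refine ⟨(P : Subgroup _).map (D.comap (QuotientGroup.mk' N)).subtype, P.2.map _, ?_⟩
  have htop : (P : Subgroup _).map f = ⊤ :=
    ((P.mapSurjective hf).3 (hD.of_equiv Subgroup.topEquiv.symm) le_top).symm
  rw [Subgroup.map_map,
    show (QuotientGroup.mk' N).comp (D.comap (QuotientGroup.mk' N)).subtype =
      D.subtype.comp f from rfl,
    ← Subgroup.map_map, htop, ← MonoidHom.range_eq_map, Subgroup.range_subtype]

/-- A class of the quotient with unit coefficient in the lifted idempotent lifts to a class with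
unit coefficient centralised by the whole `p`-subgroup above. -/
theorem exists_coeffUnit_lift (hM : Cfsg.IsPModular p M) {B : Set (Cfsg.IrrCharacter G)}
    (hB : Cfsg.IsPBlock M B) {q : G ⧸ N}
    (hq : setCoeffBar (blockClosed_quotSet N hB) q ≠ 0) {S : Subgroup G} (hS : IsPGroup p S)
    (hSq : S.map (QuotientGroup.mk' N) ≤ Subgroup.centralizer ({q} : Set (G ⧸ N))) :
    ∃ y : G, (y : G ⧸ N) = q ∧ CoeffUnit M B y ∧ y ∈ Subgroup.centralizer (S : Set G) := by
  classical
  have := Cfsg.Agent.H41.IsPModular.charP hM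
  have : Fintype G := Fintype.ofFinite G
  let f : G → ResField M := fun g =>
    if (g : G ⧸ N) = q then setCoeffBar (blockClosed_of_isPBlock hB) g else 0
  have hf : ∀ s ∈ S, ∀ g, f (s * g * s⁻¹) = f g := by
    intro s hs g
    have hsq := Subgroup.mem_centralizer_singleton_iff.1 (hSq (Subgroup.mem_map_of_mem _ hs))
    rw [QuotientGroup.mk'_apply] at hsq
    have hiff : ((s * g * s⁻¹ : G) : G ⧸ N) = q ↔ (g : G ⧸ N) = q := by
      rw [QuotientGroup.mk_mul, QuotientGroup.mk_mul, QuotientGroup.mk_inv, mul_inv_eq_iff_eq_mul,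
        ← hsq]
      exact ⟨fun e => mul_left_cancel e, fun e => by rw [e]⟩
    simp only [f, hiff, setCoeffBar_conj]
  have hsum : ∑ g, f g = setCoeffBar (blockClosed_quotSet N hB) q := by
    simp only [f]
    rw [← Finset.sum_filter]
    unfold setCoeffBar
    rw [← map_sum]
    congr 1
    refine Subtype.ext ?_
    rw [AddSubmonoidClass.coe_finsetSum]
    exact (blockCoeff_quotSet N B q).symm
  rw [sum_eq_sum_centralizer hS (fun m => by rw [nsmul_eq_mul, CharP.cast_eq_zero, zero_mul]) f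
    hf] at hsum
  obtain ⟨y, hy, hy0⟩ := Finset.exists_ne_zero_of_sum_ne_zero (hsum.trans_ne hq)
  by_cases hyq : (y : G ⧸ N) = q
  · simp only [f, if_pos hyq] at hy0
    exact ⟨y, hyq, coeffUnit_of_setCoeffBar hB hy0, (Finset.mem_filter.1 hy).2⟩
  · exact absurd (if_neg hyq) hy0

/-- A defect group of a block of the quotient inside `B` lifts into a defect group of `B`. -/
theorem exists_isDefectGroup_map_ge (hM : Cfsg.IsPModular p M)
    {Bbar : Set (Cfsg.IrrCharacter (G ⧸ N))} (hBbar : Cfsg.IsPBlock M Bbar)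
    {B : Set (Cfsg.IrrCharacter G)} (hB : Cfsg.IsPBlock M B) (hsub : Bbar ⊆ quotSet N B)
    {Dbar : Subgroup (G ⧸ N)} (hDbar : Cfsg.IsDefectGroup p M Bbar Dbar) :
    ∃ P : Subgroup G, Cfsg.IsDefectGroup p M B P ∧ Dbar ≤ P.map (QuotientGroup.mk' N) := by
  classical
  have := Cfsg.Agent.H41.IsPModular.charP hM
  have : Fintype (G ⧸ N) := Fintype.ofFinite _
  obtain ⟨x, hx, hDx⟩ := isDefectGroup_iff.1 hDbar
  let hS := blockClosed_quotSet N hB
  have hprod : redZ M (setLocIdem hS) * idemBar hBbar = idemBar hBbar := by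
    rw [idemBar, ← map_mul]
    congr 1
    refine Cfsg.Agent.H41.incl_injective M ?_
    rw [map_mul, incl_setLocIdem, Cfsg.Agent.H41.incl_locIdem]
    refine Cfsg.Agent.H41.center_ext_omega fun φ => ?_
    rw [map_mul, Cfsg.Agent.H41.omega_blockIdem, Cfsg.Agent.H41.omega_blockIdem]
    by_cases hφ : φ ∈ Bbar
    · rw [if_pos hφ, if_pos (hsub hφ), mul_one]
    · rw [if_neg hφ, mul_zero]
  have hxD : x ∈ Subgroup.centralizer (Dbar : Set (G ⧸ N)) :=
    le_centralizer_singleton_iff.1 hDx.1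
  have hne := (Cfsg.Agent.H41.coeff_idemBar_ne_zero_iff hBbar x).2 ⟨hx.1, hx.2.1⟩
  rw [← hprod, Subalgebra.coe_mul,
    coeff_mul_centralizer hDx.2.1 (coeffInvariant_of_mem_center _ (SetLike.coe_mem _))
      (coeffInvariant_of_mem_center _ (SetLike.coe_mem _)) hxD] at hne
  obtain ⟨q, hq, hq0⟩ := Finset.exists_ne_zero_of_sum_ne_zero hne
  have hq1 := left_ne_zero_of_mul hq0
  rw [coeff_redZ_setLocIdem] at hq1
  obtain ⟨S, hSp, hSD⟩ := exists_isPGroup_map_eq N hDx.2.1
  have hSq : S.map (QuotientGroup.mk' N) ≤ Subgroup.centralizer ({q} : Set (G ⧸ N)) :=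
    hSD ▸ le_centralizer_singleton_iff.2 (Finset.mem_filter.1 hq).2
  obtain ⟨y, -, hy, hyS⟩ := exists_coeffUnit_lift N hM hB hq1 hSp hSq
  obtain ⟨P, hP⟩ := exists_isDefectGroup hM hB
  obtain ⟨z, hz⟩ := classDefLE_defectGroup hM hB hy hP S hSp (le_centralizer_singleton_iff.2 hyS)
  refine ⟨rconj z⁻¹ P, isDefectGroup_rconj hP _, ?_⟩
  rw [← hSD]
  refine Subgroup.map_mono fun s hs => ?_
  rw [mem_rconj, inv_inv]
  exact hz (by rw [mem_rconj]; simpa [mul_assoc] using hs)

/-- `map` commutes with conjugation. -/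
theorem map_rconj {H : Type*} [Group H] (f : G →* H) (z : G) (P : Subgroup G) :
    (rconj z P).map f = rconj (f z) (P.map f) := by
  unfold Cfsg.Agent.H23.rconj
  rw [Subgroup.map_map, Subgroup.map_map]
  congr 1
  ext g
  simp

/-- A `p`-element times a commuting `p`-regular element is `p`-regular only if it is trivial. -/
theorem eq_one_of_mul_regular {x n : G} {k : ℕ} (hxn : Commute x n) (hn : orderOf n = p ^ k)
    (hx : ¬ p ∣ orderOf x) (hxn' : ¬ p ∣ orderOf (x * n)) : n = 1 := by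
  have hc : Commute x⁻¹ (x * n) := ((Commute.refl x).mul_right hxn).inv_left
  have h1 : orderOf n ∣ Nat.lcm (orderOf x⁻¹) (orderOf (x * n)) := by
    have := hc.orderOf_mul_dvd_lcm
    rwa [inv_mul_cancel_left] at this
  rw [orderOf_inv] at h1
  have hcop : (p ^ k).Coprime (Nat.lcm (orderOf x) (orderOf (x * n))) := by
    refine Nat.Coprime.pow_left _ (((Fact.out : p.Prime).coprime_iff_not_dvd).2 fun h => ?_)
    rcases (Fact.out : p.Prime).dvd_mul.1 (h.trans (Nat.lcm_dvd_mul _ _)) with h' | h'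
    · exact hx h'
    · exact hxn' h'
  rw [hn] at h1
  rw [← orderOf_eq_one_iff, hn]
  exact hcop.eq_one_of_dvd h1

/-- Modulo a normal `p`-subgroup some block inside `B` has the images as defect groups. -/
theorem exists_quotient_block (hM : Cfsg.IsPModular p M) (hN : IsPGroup p N)
    {B : Set (Cfsg.IrrCharacter G)} (hB : Cfsg.IsPBlock M B) :
    ∃ Bbar : Set (Cfsg.IrrCharacter (G ⧸ N)), Cfsg.IsPBlock M Bbar ∧ Bbar ⊆ quotSet N B ∧
      ∀ Dbar : Subgroup (G ⧸ N), Cfsg.IsDefectGroup p M Bbar Dbar ↔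
        ∃ P : Subgroup G, Cfsg.IsDefectGroup p M B P ∧ Dbar = P.map (QuotientGroup.mk' N) := by
  classical
  have := Cfsg.Agent.H41.IsPModular.charP hM
  have : Fintype G := Fintype.ofFinite G
  obtain ⟨P, hP⟩ := exists_isDefectGroup hM hB
  obtain ⟨x, hx, hPx⟩ := isDefectGroup_iff.1 hP
  have hNP : N ≤ P := normal_le_defectGroup hM hB hP hN
  have hxP : x ∈ Subgroup.centralizer (P : Set G) := le_centralizer_singleton_iff.1 hPx.1
  have hxreg : ¬ p ∣ orderOf x := not_dvd_orderOf_of_coeffUnit hM hB ⟨hx.1, hx.2.1⟩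
  let hS := blockClosed_quotSet N hB
  -- the coefficient of the lifted idempotent at the image of `x`
  have hcoef : setCoeffBar hS (x : G ⧸ N) = setCoeffBar (blockClosed_of_isPBlock hB) x := by
    let f : G → ResField M := fun g =>
      if (g : G ⧸ N) = (x : G ⧸ N) then setCoeffBar (blockClosed_of_isPBlock hB) g else 0
    have hsum : ∑ g, f g = setCoeffBar hS (x : G ⧸ N) := by
      simp only [f]
      rw [← Finset.sum_filter]
      unfold setCoeffBar
      rw [← map_sum]
      congr 1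
      refine Subtype.ext ?_
      rw [AddSubmonoidClass.coe_finsetSum]
      exact (blockCoeff_quotSet N B _).symm
    rw [← hsum, sum_eq_sum_centralizer hPx.2.1
      (fun m => by rw [nsmul_eq_mul, CharP.cast_eq_zero, zero_mul]) f fun s hs g => ?_]
    · rw [Finset.sum_eq_single_of_mem x (Finset.mem_filter.2 ⟨Finset.mem_univ _, hxP⟩)
        fun g hg hgx => ?_]
      · exact (if_pos rfl)
      · by_contra hne
        have hgq : (g : G ⧸ N) = (x : G ⧸ N) := by
          by_contra h; exact hne (if_neg h)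
        simp only [f, if_pos hgq] at hne
        have hreg : ¬ p ∣ orderOf g :=
          not_dvd_orderOf_of_coeffUnit hM hB (coeffUnit_of_setCoeffBar hB hne)
        have hn : x⁻¹ * g ∈ N := QuotientGroup.eq.1 hgq.symm
        obtain ⟨k, hk⟩ := IsPGroup.iff_orderOf.1 hN ⟨x⁻¹ * g, hn⟩
        rw [← Subgroup.orderOf_coe] at hk
        have hcomm : Commute x (x⁻¹ * g) :=
          (Subgroup.mem_centralizer_iff.1 hxP _ (hNP hn)).symm
        have h1 := eq_one_of_mul_regular hcomm hk hxreg (by rwa [mul_inv_cancel_left])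
        exact hgx (inv_mul_eq_one.1 h1).symm
    · have hxs := Subgroup.mem_centralizer_iff.1 hxP s hs
      have hiff : ((s * g * s⁻¹ : G) : G ⧸ N) = x ↔ (g : G ⧸ N) = x := by
        rw [QuotientGroup.mk_mul, QuotientGroup.mk_mul, QuotientGroup.mk_inv,
          mul_inv_eq_iff_eq_mul, ← QuotientGroup.mk_mul, ← QuotientGroup.mk_mul, ← hxs,
          QuotientGroup.mk_mul, QuotientGroup.mk_mul]
        exact mul_right_inj _
      simp only [f, hiff, setCoeffBar_conj]
  have hne : setCoeffBar hS (x : G ⧸ N) ≠ 0 := by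
    rw [hcoef]
    intro h0
    refine hx.2.1 (Cfsg.Agent.H41.memLocalIdeal_iff_res.2 ⟨_, h0⟩)
  obtain ⟨Bbar, hBbar, hsub, hunit⟩ := exists_block_coeffUnit_of_setCoeffBar hS hne
  refine ⟨Bbar, hBbar, hsub, ?_⟩
  obtain ⟨D, hD⟩ := exists_isDefectGroup hM hBbar
  have hPle : P.map (QuotientGroup.mk' N) ≤ Subgroup.centralizer ({(x : G ⧸ N)} : Set (G ⧸ N)) :=
    Subgroup.map_le_iff_le_comap.2 (hPx.1.trans (centralizer_le_comap N x))
  have h1 : SubConj (P.map (QuotientGroup.mk' N)) D :=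
    classDefLE_defectGroup hM hBbar hunit hD _ (hPx.2.1.map _) hPle
  obtain ⟨φ, hφ⟩ := Cfsg.Agent.H41.IsPBlock.nonempty hBbar
  have hω := hx.2.2 _ (hsub hφ)
  rw [centralChar_inflate] at hω
  set c := (Subgroup.centralizer ({x} : Set G)).relIndex
    ((Subgroup.centralizer ({(x : G ⧸ N)} : Set (G ⧸ N))).comap (QuotientGroup.mk' N)) with hc
  have hωmem : Cfsg.centralChar (φ : G ⧸ N → ℂ) (x : G ⧸ N) ∈ localRing M :=
    Cfsg.Agent.H41.isIntegral_mem_localRing (Cfsg.Agent.H41.isIntegral_centralChar φ _)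
  have hpc : ¬ p ∣ c := by
    intro hd
    apply hω
    refine Cfsg.Agent.H41.memLocalIdeal_iff_res.2 ⟨mul_mem (natCast_mem _ _) hωmem, ?_⟩
    rw [show (⟨(c : ℂ) * Cfsg.centralChar (φ : G ⧸ N → ℂ) (x : G ⧸ N), _⟩ : localRing M) =
      (c : localRing M) * ⟨_, hωmem⟩ from rfl, map_mul, map_natCast,
      (Cfsg.Agent.H41.IsPModular.natCast_eq_zero_iff hM c).2 hd, zero_mul]
  have hω' : ¬ Cfsg.MemLocalIdeal M (Cfsg.centralChar (φ : G ⧸ N → ℂ) (x : G ⧸ N)) := by
    intro h
    apply hω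
    obtain ⟨a, b, ha, hb, hab⟩ := h
    refine ⟨(c : Cfsg.AlgInt) * a, b, M.mul_mem_left _ ha, hb, ?_⟩
    rw [← hab, mul_div_assoc']
    congr 1
  have hsyl : IsSylowIn p (P.map (QuotientGroup.mk' N))
      (Subgroup.centralizer ({(x : G ⧸ N)} : Set (G ⧸ N))) := by
    refine ⟨hPle, hPx.2.1.map _, ?_⟩
    set K := (Subgroup.centralizer ({(x : G ⧸ N)} : Set (G ⧸ N))).comap (QuotientGroup.mk' N)
    have hPK : ¬ p ∣ P.relIndex K := by
      rw [← Subgroup.relIndex_mul_relIndex P _ K hPx.1 (centralizer_le_comap N x)]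
      exact fun h => ((Fact.out : p.Prime).dvd_mul.1 h).elim hPx.2.2 hpc
    have h := Subgroup.relIndex_comap (P.map (QuotientGroup.mk' N)) (QuotientGroup.mk' N) K
    rw [Subgroup.comap_map_eq_self (by rw [QuotientGroup.ker_mk']; exact hNP),
      Subgroup.map_comap_eq_self_of_surjective (QuotientGroup.mk'_surjective N)] at h
    exact h ▸ hPK
  have h2 : SubConj D (P.map (QuotientGroup.mk' N)) :=
    subConj_of_centralChar hM hBbar hφ hω' hD hsyl
  obtain ⟨u, hu⟩ := h1.exists_rconj_eq h2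
  intro Dbar
  constructor
  · intro hDbar
    obtain ⟨v, hv⟩ := (subConj_defectGroup hM hBbar hD hDbar).exists_rconj_eq
      (subConj_defectGroup hM hBbar hDbar hD)
    obtain ⟨z, hz⟩ := QuotientGroup.mk'_surjective N (u * v)
    refine ⟨rconj z P, isDefectGroup_rconj hP z, ?_⟩
    rw [map_rconj, hz, ← Cfsg.Agent.H23.rconj_rconj, hu, hv]
  · rintro ⟨P', hP', rfl⟩
    obtain ⟨w, rfl⟩ := (subConj_defectGroup hM hB hP hP').exists_rconj_eq
      (subConj_defectGroup hM hB hP' hP)
    rw [map_rconj]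
    have : P.map (QuotientGroup.mk' N) = rconj u⁻¹ D := by
      rw [← hu, Cfsg.Agent.H23.rconj_rconj, mul_inv_cancel, Cfsg.Agent.H23.rconj_one]
    rw [this, Cfsg.Agent.H23.rconj_rconj]
    exact isDefectGroup_rconj hD _

end Cfsg.Agent.H40
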