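import Cfsg.Agent.H40.BlockSets
import Cfsg.Agent.H41.Covering

/-!
# Blocks are determined by the `p`-regular classes
-/

set_option autoImplicit false
set_option linter.unusedSectionVars false

namespace Cfsg.Agent.H40

open Cfsg
open Cfsg.Agent.H41 (localRing)

variable {G : Type*} [Group G] [Finite G] {p : ℕ} [Fact p.Prime] {M : Ideal Cfsg.AlgInt}

open scoped Classical in
/-- Congruent central characters at the regular classes give one block. -/
theorem sameBlock_of_regular (hM : Cfsg.IsPModular p M) {χ ψ : Cfsg.IrrCharacter G}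
    (h : ∀ g : G, ¬ p ∣ orderOf g →
      Cfsg.MemLocalIdeal M (Cfsg.centralChar (χ : G → ℂ) g - Cfsg.centralChar (ψ : G → ℂ) g)) :
    Cfsg.SameBlock M (χ : G → ℂ) (ψ : G → ℂ) := by
  have := hM.2.1
  have : Fintype G := Fintype.ofFinite G
  have : Finite (ConjClasses G) := Quotient.finite _
  have := Fintype.ofFinite (ConjClasses G)
  set B := Cfsg.blockOf M (ψ : G → ℂ)
  have hB : Cfsg.IsPBlock M B := H41.isPBlock_blockOf ψ
  have hsum : ∀ φ : Cfsg.IrrCharacter G, ∑ C : ConjClasses G,
      Cfsg.blockCoeff B (Quotient.out C) * Cfsg.centralChar (φ : G → ℂ) (Quotient.out C) =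
      if φ ∈ B then 1 else 0 := fun φ => by
    rw [← H41.omega_blockIdem, H41.center_eq_sum_classSumZ (H41.blockIdem B), map_sum]
    exact Finset.sum_congr rfl fun C _ => by
      rw [map_smul, H41.omega_classSumZ, H41.coeff_blockIdem, smul_eq_mul]
  have h0 : Cfsg.MemLocalIdeal M (0 : ℂ) := by
    have := h 1 (by simpa using (Fact.out : p.Prime).not_dvd_one)
    exact H41.memLocalIdeal_iff_res.2 ⟨zero_mem _, map_zero _⟩
  have hd := H41.memLocalIdeal_sum_mul_sub (M := M) Finset.univ
    (a := fun C : ConjClasses G => Cfsg.blockCoeff B (Quotient.out C))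
    (x := fun C => Cfsg.centralChar (χ : G → ℂ) (Quotient.out C))
    (y := fun C => Cfsg.centralChar (ψ : G → ℂ) (Quotient.out C))
    (fun C _ => H41.blockCoeff_mem hB _) (fun C _ => by
      by_cases hC : p ∣ orderOf (Quotient.out C)
      · exact Or.inl (H40.blockCoeff_eq_zero_of_singular hM hB hC)
      · exact Or.inr (h _ hC))
  rw [hsum, hsum] at hd
  have hmem : χ ∈ B := (H41.eq_of_memLocalIdeal_ite_sub hd).2 (H41.mem_blockOf_self ψ)
  exact H41.sameBlock_of_mem hB hmem (H41.mem_blockOf_self ψ)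

end Cfsg.Agent.H40
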