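import Cfsg.Agent.H22.StarInt
import Cfsg.Agent.H40.NilpotentBlocks

/-!
# The star product stays in the block
-/

set_option autoImplicit false
set_option linter.unusedSectionVars false
set_option maxHeartbeats 400000

open scoped ComplexConjugate

namespace Cfsg.Agent.H40.NilpotentBlocks

open Cfsg
open Cfsg.Agent.H22 (IsMaxEl el elTop PairStable wt)
open Cfsg.Agent.H41 (ResField)

universe u

variable {G : Type u} [Group G] [Fintype G] {p : ℕ} [Fact p.Prime] {M : Ideal Cfsg.AlgInt}
  [M.IsMaximal] [CharP (ResField M) p] {m : Subgroup G × MonoidAlgebra (ResField M) G}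
  {B : Set (Cfsg.IrrCharacter G)}

/-- Outside the block the star product has no constituent. -/
theorem classInner_star_eq_zero (hM : Cfsg.IsPModular p M) (hB : Cfsg.IsPBlock M B)
    {χ : Cfsg.IrrCharacter G} (hχ : χ ∈ B) {ψ : Cfsg.IrrCharacter G} (hψ : ψ ∉ B) (η : G → ℂ) :
    Cfsg.classInner (H22.star p M m η (χ : G → ℂ)) (ψ : G → ℂ) = 0 := by
  classical
  refine mul_eq_zero_of_right _ ?_
  rw [StarNorm.sum_eq_sum_p_elements (p := p)]
  refine Finset.sum_eq_zero fun x hx => ?_
  have hx' := (Finset.mem_filter.1 hx).2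
  rw [Finset.sum_congr rfl fun s hs => by
      rw [StarNorm.star_mul_eq (H26.irr_isClassFunction χ) hx' (Finset.mem_filter.1 hs).2,
        Finset.sum_mul],
    Finset.sum_comm]
  refine Finset.sum_eq_zero fun c hc => ?_
  simp only [mul_assoc, ← Finset.mul_sum]
  refine mul_eq_zero_of_right _ ?_
  rw [StarNorm.sum_secPart_mul hM (H26.irr_isClassFunction ψ) hc]
  refine Finset.sum_eq_zero fun s hs => ?_
  have hs' : ¬ p ∣ orderOf s := (Finset.mem_filter.1 hs).2
  have hc' := StarNorm.mem_secBlocks.1 hc
  have main : ∀ (L : Subgroup G), L = Subgroup.centralizer ({x} : Set G) →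
      ∀ b : Set (Cfsg.IrrCharacter L), Cfsg.IsPBlock M b → ∀ y : L, ¬ p ∣ orderOf y →
      Cfsg.blockPart b (fun k : L => (χ : G → ℂ) (x * (k : G))) y *
        conj (Cfsg.blockPart b (fun k : L => (ψ : G → ℂ) (x * (k : G))) y) = 0 := by
    intro L hL
    subst hL
    intro b hb y hy
    by_cases h : Cfsg.IsInducedBlock M (Subgroup.centralizer ({x} : Set G)) b B
    · rw [Cfsg.Agent.S0923.result p M hM x hx' _ (H41.isPBlock_blockOf ψ) ψ
        (H41.mem_blockOf_self ψ) b hb (fun h' => hψ ?_) y hy, map_zero, mul_zero]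
      rw [isInducedBlock_unique h h']
      exact H41.mem_blockOf_self ψ
    · rw [Cfsg.Agent.S0923.result p M hM x hx' B hB χ hχ b hb h y hy, zero_mul]
  exact main _ (centralizer_zpowers_eq x) c hc' s hs'

/-- The star product of a generalised character is an integral combination of the block. -/
theorem starInt (hM : Cfsg.IsPModular p M) (hB : Cfsg.IsPBlock M B)
    (hm : IsMaxEl p ⊤ (elTop M B) m) : StarInt p M m B := by
  classical
  intro η hη hst χ hχ
  choose a ha using fun ψ => H22.exists_int_classInner_star hM hB hm hst hη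
    (H26.irr_isCharacter χ) ψ
  refine ⟨a, fun ψ hψ => ?_, fun g => ?_⟩
  · have h := ha ψ
    rw [classInner_star_eq_zero hM hB hχ hψ] at h
    exact_mod_cast h.symm
  · have h := congrFun (H26.class_function_expansion (H22.star p M m η (χ : G → ℂ))
      (H22.isClassFunction_star hst (H26.irr_isClassFunction χ))) g
    rw [Finset.sum_apply] at h
    rw [h]
    exact Finset.sum_congr rfl fun ψ _ => by rw [Pi.smul_apply, smul_eq_mul, ha ψ]

end Cfsg.Agent.H40.NilpotentBlocks
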